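/-
Hyperbolic pairs of a unitary space: monomial and diagonal elements.
-/
import Cfsg.Agent.Lib.Classical.UnitaryShort

set_option autoImplicit false
set_option linter.unusedSectionVars false

namespace CfsgLib.Classical.UnitTwoGen

open Matrix CfsgLib.Transvec CfsgLib.Transvec.Unitary CfsgLib.Classical.Unitary
open scoped MatrixGroups

variable {ι : Type} [Fintype ι] [DecidableEq ι] {F : Type*} [Field F] {σ : F ≃+* F}
  {f : (ι → F) → (ι → F) → F}

/-- `k` hyperbolic pairs and a line through the rest. -/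
structure HFrame (f : (ι → F) → (ι → F) → F) (k : ℕ) where
  /-- first halves -/
  e : Fin k → (ι → F)
  /-- second halves -/
  d : Fin k → (ι → F)
  /-- the rest -/
  z : ι → F
  ee : ∀ i j, f (e i) (e j) = 0
  dd : ∀ i j, f (d i) (d j) = 0
  ed : ∀ i j, f (e i) (d j) = if i = j then 1 else 0
  de : ∀ i j, f (d i) (e j) = if i = j then 1 else 0
  ze : ∀ i, f z (e i) = 0 ∧ f z (d i) = 0
  ez : ∀ i, f (e i) z = 0 ∧ f (d i) z = 0
  cover : ∀ x, (∀ i, f x (e i) = 0 ∧ f x (d i) = 0) → ∃ c : F, x = c • z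

variable (hf : Cfsg.Geo.IsUnitaryForm σ f) {k : ℕ} (H : HFrame f k)

include hf

theorem conj_eu {g : GL ι F} (hg : Iso f g) {v w : ι → F} (hv : f v v = 0) (hwv : f w v = 0) (b : F) :
    g * eu f v w b * g⁻¹ = eu f ((g : Matrix ι ι F) *ᵥ v) ((g : Matrix ι ι F) *ᵥ w) b := by
  refine gl_ext fun y => ?_
  have h := hg (((g⁻¹ : GL ι F) : Matrix ι ι F) *ᵥ y) v
  have h' := hg (((g⁻¹ : GL ι F) : Matrix ι ι F) *ᵥ y) w
  rw [mulVec_inv_cancel] at h h'
  rw [mul_mulVec, mul_mulVec, eu_mulVec hf hv hwv, eu_mulVec hf (by rw [hg]; exact hv) (by rw [hg]; exact hwv),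
    mulVec_add, mulVec_add, mulVec_inv_cancel, mulVec_smul, mulVec_smul, h, h']

theorem HFrame.decomp (x : ι → F) : ∃ c : F,
    x = c • H.z + ∑ i, (f x (H.d i) • H.e i + f x (H.e i) • H.d i) := by
  classical
  have hs : ∀ y, f (∑ i, (f x (H.d i) • H.e i + f x (H.e i) • H.d i)) y =
      ∑ i, (f x (H.d i) * f (H.e i) y + f x (H.e i) * f (H.d i) y) := fun y => by
    have h := map_sum (linL hf y) (fun i => f x (H.d i) • H.e i + f x (H.e i) • H.d i) Finset.univ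
    change f _ y = ∑ i, f (f x (H.d i) • H.e i + f x (H.e i) • H.d i) y at h
    rw [h]
    exact Finset.sum_congr rfl fun i _ => by rw [hf.add_left, hf.smul_left, hf.smul_left]
  obtain ⟨c, hc⟩ := H.cover (x - ∑ i, (f x (H.d i) • H.e i + f x (H.e i) • H.d i)) fun j => by
    constructor <;> rw [sub_left' hf, hs] <;> simp [H.ee, H.dd, H.ed, H.de]
  exact ⟨c, by rw [← hc, sub_add_cancel]⟩

/-- Elements agreeing on the frame are equal. -/
theorem HFrame.ext {g h : GL ι F} (he : ∀ i, (g : Matrix ι ι F) *ᵥ H.e i = (h : Matrix ι ι F) *ᵥ H.e i)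
    (hd : ∀ i, (g : Matrix ι ι F) *ᵥ H.d i = (h : Matrix ι ι F) *ᵥ H.d i)
    (hz : (g : Matrix ι ι F) *ᵥ H.z = (h : Matrix ι ι F) *ᵥ H.z) : g = h := by
  refine gl_ext fun x => ?_
  obtain ⟨c, hc⟩ := H.decomp hf x
  rw [hc, mulVec_add, mulVec_add, mulVec_smul, mulVec_smul, hz, mulVec_sum, mulVec_sum]
  congr 1
  exact Finset.sum_congr rfl fun i _ => by simp only [mulVec_add, mulVec_smul, he, hd]

omit hf in
/-- The root element `e_j ↦ e_j + t e_i` for a fixed scalar `t`. -/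
noncomputable def HFrame.X (i j : Fin k) (t : F) : GL ι F := eu f (H.e i) (-(t • H.d j)) 0

theorem HFrame.X_perp {i j : Fin k} (hij : i ≠ j) (t : F) : f (-(t • H.d j)) (H.e i) = 0 := by
  rw [← neg_smul, hf.smul_left, H.de, if_neg hij.symm, mul_zero]

theorem HFrame.X_apply {i j : Fin k} (hij : i ≠ j) {t : F} (ht : σ t = t) (x : ι → F) :
    (H.X i j t : Matrix ι ι F) *ᵥ x =
      x + (t * f x (H.d j)) • H.e i - (t * f x (H.e i)) • H.d j := by
  rw [HFrame.X, eu_mulVec hf (H.ee i i) (H.X_perp hf hij t), ← neg_smul, smul_right' hf, map_neg, ht]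
  module

theorem HFrame.X_iso {i j : Fin k} (hij : i ≠ j) (t : F) :
    Iso f (H.X i j t) ∧ (H.X i j t : Matrix ι ι F).det = 1 :=
  ⟨iso_eu hf (H.ee i i) (H.X_perp hf hij t) (by
    rw [← neg_smul, hf.smul_left, smul_right' hf, H.dd, mul_zero, mul_zero, map_zero, add_zero, add_zero]),
    eu_det _ _ _⟩

omit hf in
/-- The signed exchange `e_i ↦ e_j ↦ -e_i`. -/
noncomputable def HFrame.N (i j : Fin k) : GL ι F := H.X j i 1 * H.X i j (-1) * H.X j i 1

theorem HFrame.N_apply {i j : Fin k} (hij : i ≠ j) (x : ι → F) :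
    (H.N i j : Matrix ι ι F) *ᵥ x = x + f x (H.d i) • (H.e j - H.e i) - f x (H.d j) • (H.e i + H.e j) +
      f x (H.e i) • (H.d j - H.d i) - f x (H.e j) • (H.d i + H.d j) := by
  have h1 : σ (1 : F) = 1 := map_one σ
  have h2 : σ (-1 : F) = -1 := by rw [map_neg, map_one]
  simp only [HFrame.N, mul_mulVec, H.X_apply hf hij h2, H.X_apply hf hij.symm h1, hf.add_left, sub_left' hf,
    hf.smul_left, H.ee, H.dd, H.ed, H.de, hij, hij.symm, if_false, if_true]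
  module

/-- The elements of the special isometry group. -/
theorem iso_det_mul {g h : GL ι F} (hg : Iso f g ∧ (g : Matrix ι ι F).det = 1)
    (hh : Iso f h ∧ (h : Matrix ι ι F).det = 1) : Iso f (g * h) ∧ ((g * h : GL ι F) : Matrix ι ι F).det = 1 :=
  ⟨hg.1.mul hh.1, by rw [Units.val_mul, det_mul, hg.2, hh.2, one_mul]⟩

theorem HFrame.N_iso {i j : Fin k} (hij : i ≠ j) : Iso f (H.N i j) ∧ (H.N i j : Matrix ι ι F).det = 1 :=
  iso_det_mul hf (iso_det_mul hf (H.X_iso hf hij.symm 1) (H.X_iso hf hij _)) (H.X_iso hf hij.symm 1)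

theorem HFrame.N_e {i j : Fin k} (hij : i ≠ j) :
    (H.N i j : Matrix ι ι F) *ᵥ H.e i = H.e j ∧ (H.N i j : Matrix ι ι F) *ᵥ H.e j = -H.e i ∧
      ∀ l, l ≠ i → l ≠ j → (H.N i j : Matrix ι ι F) *ᵥ H.e l = H.e l := by
  refine ⟨?_, ?_, fun l hi hj => ?_⟩ <;> rw [H.N_apply hf hij]
  · simp [H.ee, H.ed, hij]
  · simp [H.ee, H.ed, hij.symm]
  · simp [H.ee, H.ed, hi, hj]

theorem HFrame.N_d {i j : Fin k} (hij : i ≠ j) :
    (H.N i j : Matrix ι ι F) *ᵥ H.d i = H.d j ∧ (H.N i j : Matrix ι ι F) *ᵥ H.d j = -H.d i ∧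
      ∀ l, l ≠ i → l ≠ j → (H.N i j : Matrix ι ι F) *ᵥ H.d l = H.d l := by
  refine ⟨?_, ?_, fun l hi hj => ?_⟩ <;> rw [H.N_apply hf hij]
  · simp [H.dd, H.de, hij]
  · simp [H.dd, H.de, hij.symm]
  · simp [H.dd, H.de, hi, hj]

theorem HFrame.N_z {i j : Fin k} (hij : i ≠ j) : (H.N i j : Matrix ι ι F) *ᵥ H.z = H.z := by
  rw [H.N_apply hf hij]; simp [(H.ze i).1, (H.ze i).2, (H.ze j).1, (H.ze j).2]

omit hf in
/-- The exchange of the halves of one pair. -/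
noncomputable def HFrame.flip (i : Fin k) (c : F) : GL ι F :=
  uT f (H.d i) c * uT f (H.e i) (-c⁻¹) * uT f (H.d i) c

theorem HFrame.flip_apply (i : Fin k) {c : F} (hc : c ≠ 0) (x : ι → F) :
    (H.flip i c : Matrix ι ι F) *ᵥ x =
      x + f x (H.d i) • (c • H.d i - H.e i) + f x (H.e i) • (-c⁻¹ • H.e i - H.d i) := by
  simp only [HFrame.flip, mul_mulVec, uT_mulVec hf (H.dd i i), uT_mulVec hf (H.ee i i), hf.add_left,
    hf.smul_left, H.ee, H.dd, H.ed, H.de, if_true, mul_one, mul_zero, add_zero]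
  match_scalars
  all_goals field_simp
  all_goals ring

theorem HFrame.flip_iso (i : Fin k) {c : F} (hc : c + σ c = 0) :
    Iso f (H.flip i c) ∧ (H.flip i c : Matrix ι ι F).det = 1 := by
  have h1 := transvGroup_le hf (uT_mem hf (H.dd i i) hc)
  have h2 := transvGroup_le hf (uT_mem hf (H.ee i i) (c := -c⁻¹) (by
    have h' : σ c = -c := by linear_combination hc
    rw [map_neg, map_inv₀, h', inv_neg, neg_neg, neg_add_cancel]))
  exact iso_det_mul hf (iso_det_mul hf h1 h2) h1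

/-- The cycle of the first `n + 1` pairs. -/
theorem HFrame.exists_cycle (n : ℕ) (hn : n < k) :
    ∃ C : GL ι F, (Iso f C ∧ (C : Matrix ι ι F).det = 1) ∧ (C : Matrix ι ι F) *ᵥ H.z = H.z ∧
      (∀ i j : Fin k, i.val + 1 = j.val → j.val ≤ n →
        (C : Matrix ι ι F) *ᵥ H.e i = H.e j ∧ (C : Matrix ι ι F) *ᵥ H.d i = H.d j) ∧
      (∃ c c' : F, c ≠ 0 ∧ c' ≠ 0 ∧ (C : Matrix ι ι F) *ᵥ H.e ⟨n, hn⟩ = c • H.e ⟨0, by omega⟩ ∧
        (C : Matrix ι ι F) *ᵥ H.d ⟨n, hn⟩ = c' • H.d ⟨0, by omega⟩) ∧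
      ∀ l : Fin k, n < l.val → (C : Matrix ι ι F) *ᵥ H.e l = H.e l ∧ (C : Matrix ι ι F) *ᵥ H.d l = H.d l := by
  induction n with
  | zero =>
    refine ⟨1, ⟨fun u v => by simp, by simp⟩, by simp, fun i j h h' => by omega,
      ⟨1, 1, one_ne_zero, one_ne_zero, by simp, by simp⟩, fun l _ => by simp⟩
  | succ n ih =>
    obtain ⟨C, hC, hz, hcyc, ⟨c, c', hc, hc', hce, hcd⟩, hfix⟩ := ih (by omega)
    set i0 : Fin k := ⟨n, by omega⟩ with hi0
    set j0 : Fin k := ⟨n + 1, hn⟩ with hj0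
    have hij : i0 ≠ j0 := by simp [hi0, hj0]
    refine ⟨C * H.N i0 j0, iso_det_mul hf hC (H.N_iso hf hij), ?_, fun i j h h' => ?_,
      ⟨-c, -c', neg_ne_zero.2 hc, neg_ne_zero.2 hc', ?_, ?_⟩, fun l hl => ?_⟩
    · rw [mul_mulVec, H.N_z hf hij, hz]
    · rw [mul_mulVec, mul_mulVec]
      rcases Nat.lt_or_ge j.val (n + 1) with hj | hj
      · have h1 : i ≠ i0 := fun e => by rw [e, hi0] at h; simp only at h; omega
        have h2 : i ≠ j0 := fun e => by rw [e, hj0] at h; simp only at h; omega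
        rw [(H.N_e hf hij).2.2 i h1 h2, (H.N_d hf hij).2.2 i h1 h2]
        exact hcyc i j h (by omega)
      · obtain rfl : j = j0 := Fin.ext (show j.val = n + 1 by omega)
        obtain rfl : i = i0 := Fin.ext (show i.val = n by simp only [hj0] at h; omega)
        rw [(H.N_e hf hij).1, (H.N_d hf hij).1]
        exact hfix j0 (show n < n + 1 by omega)
    · rw [mul_mulVec, (H.N_e hf hij).2.1, mulVec_neg, hce, neg_smul]
    · rw [mul_mulVec, (H.N_d hf hij).2.1, mulVec_neg, hcd, neg_smul]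
    · have h1 : l ≠ i0 := fun e => by rw [e, hi0] at hl; simp only at hl; omega
      have h2 : l ≠ j0 := fun e => by rw [e, hj0] at hl; simp only at hl; omega
      rw [mul_mulVec, mul_mulVec, (H.N_e hf hij).2.2 l h1 h2, (H.N_d hf hij).2.2 l h1 h2]
      exact hfix l (by omega)

omit hf in
/-- The signed cycle. -/
structure HFrame.IsCycle (w : GL ι F) (hk : 0 < k) : Prop where
  iso : Iso f w
  det : (w : Matrix ι ι F).det = 1
  z : (w : Matrix ι ι F) *ᵥ H.z = H.z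
  step : ∀ i j : Fin k, i.val + 1 = j.val →
    (w : Matrix ι ι F) *ᵥ H.e i = H.e j ∧ (w : Matrix ι ι F) *ᵥ H.d i = H.d j
  last : ∃ c c' : F, c ≠ 0 ∧ c' ≠ 0 ∧ (w : Matrix ι ι F) *ᵥ H.e ⟨k - 1, by omega⟩ = c • H.d ⟨0, hk⟩ ∧
      (w : Matrix ι ι F) *ᵥ H.d ⟨k - 1, by omega⟩ = c' • H.e ⟨0, hk⟩

theorem HFrame.exists_isCycle (hk : 0 < k) : ∃ w : GL ι F, H.IsCycle w hk := by
  obtain ⟨c0, hc0, hc0s⟩ := exists_skew hf.ne_refl hf.involutive
  obtain ⟨C, hC, hz, hcyc, ⟨c, c', hc, hc', hce, hcd⟩, -⟩ := H.exists_cycle hf (k - 1) (by omega)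
  set i0 : Fin k := ⟨0, hk⟩ with hi0
  obtain ⟨hi, hd⟩ := iso_det_mul hf (H.flip_iso hf i0 hc0s) hC
  refine ⟨H.flip i0 c0 * C, hi, hd, ?_, fun i j h => ?_, c * c0, c' * -c0⁻¹,
    mul_ne_zero hc hc0, mul_ne_zero hc' (neg_ne_zero.2 (inv_ne_zero hc0)), ?_, ?_⟩
  · rw [mul_mulVec, hz, H.flip_apply hf i0 hc0]
    simp [(H.ze i0).1, (H.ze i0).2]
  · have hj : j ≠ i0 := fun e => by rw [e, hi0] at h; simp only at h; omega
    obtain ⟨h1, h2⟩ := hcyc i j h (by omega)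
    constructor
    · rw [mul_mulVec, h1, H.flip_apply hf i0 hc0]; simp [H.ee, H.ed, hj]
    · rw [mul_mulVec, h2, H.flip_apply hf i0 hc0]; simp [H.dd, H.de, hj]
  · rw [mul_mulVec, hce, mulVec_smul, H.flip_apply hf i0 hc0]
    simp [H.ee, H.ed, smul_smul, hi0]
  · rw [mul_mulVec, hcd, mulVec_smul, H.flip_apply hf i0 hc0]
    simp [H.dd, H.de, smul_smul, hi0]

omit hf in
/-- Scaling of one pair by `a`. -/
noncomputable def HFrame.D (σ : F ≃+* F) (i : Fin k) (a : F) : GL ι F :=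
  pseudo (H.e i) ((a - 1) • uvec f (H.d i)) * pseudo (H.d i) (((σ a)⁻¹ - 1) • uvec f (H.e i))

theorem HFrame.D_ne (i : Fin k) {a : F} (ha : a ≠ 0) :
    1 + ((a - 1) • uvec f (H.d i)) ⬝ᵥ H.e i ≠ 0 ∧ 1 + (((σ a)⁻¹ - 1) • uvec f (H.e i)) ⬝ᵥ H.d i ≠ 0 := by
  rw [smul_dotProduct, smul_dotProduct, uvec_dot hf, uvec_dot hf, H.ed, H.de, if_pos rfl, smul_eq_mul,
    smul_eq_mul, mul_one, mul_one, add_sub_cancel, add_sub_cancel]
  exact ⟨ha, inv_ne_zero ((map_ne_zero_iff _ σ.injective).2 ha)⟩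

theorem HFrame.D_apply (i : Fin k) {a : F} (ha : a ≠ 0) (x : ι → F) :
    (H.D σ i a : Matrix ι ι F) *ᵥ x =
      x + ((a - 1) * f x (H.d i)) • H.e i + (((σ a)⁻¹ - 1) * f x (H.e i)) • H.d i := by
  rw [HFrame.D, mul_mulVec, pseudo_mulVec (H.D_ne hf i ha).1, pseudo_mulVec (H.D_ne hf i ha).2,
    smul_dotProduct, smul_dotProduct, uvec_dot hf, uvec_dot hf, smul_eq_mul, smul_eq_mul, hf.add_left,
    hf.smul_left, H.dd]
  module

theorem HFrame.D_iso (i : Fin k) {a : F} (ha : a ≠ 0) : Iso f (H.D σ i a) := by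
  intro x y
  have hσa : σ a ≠ 0 := (map_ne_zero_iff _ σ.injective).2 ha
  rw [H.D_apply hf i ha, H.D_apply hf i ha]
  simp only [hf.add_left, add_right' hf, hf.smul_left, smul_right' hf, H.ee, H.dd, H.ed, H.de, if_true, map_mul,
    map_sub, map_one, map_inv₀, hf.involutive, ← hf.herm]
  field_simp
  ring

theorem HFrame.D_det (i : Fin k) {a : F} (ha : a ≠ 0) : (H.D σ i a : Matrix ι ι F).det = a * (σ a)⁻¹ := by
  rw [HFrame.D, Units.val_mul, det_mul, det_pseudo (H.D_ne hf i ha).1, det_pseudo (H.D_ne hf i ha).2,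
    smul_dotProduct, smul_dotProduct, uvec_dot hf, uvec_dot hf, H.ed, H.de, if_pos rfl, smul_eq_mul,
    smul_eq_mul, mul_one, mul_one, add_sub_cancel, add_sub_cancel]

theorem HFrame.D_e (i : Fin k) {a : F} (ha : a ≠ 0) :
    (H.D σ i a : Matrix ι ι F) *ᵥ H.e i = a • H.e i ∧
      ∀ l, l ≠ i → (H.D σ i a : Matrix ι ι F) *ᵥ H.e l = H.e l := by
  refine ⟨?_, fun l hl => ?_⟩ <;> rw [H.D_apply hf i ha]
  · simp [H.ee, H.ed]; module
  · simp [H.ee, H.ed, hl]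

theorem HFrame.D_d (i : Fin k) {a : F} (ha : a ≠ 0) :
    (H.D σ i a : Matrix ι ι F) *ᵥ H.d i = (σ a)⁻¹ • H.d i ∧
      ∀ l, l ≠ i → (H.D σ i a : Matrix ι ι F) *ᵥ H.d l = H.d l := by
  refine ⟨?_, fun l hl => ?_⟩ <;> rw [H.D_apply hf i ha]
  · simp [H.dd, H.de]; module
  · simp [H.dd, H.de, hl]

theorem HFrame.D_z (i : Fin k) {a : F} (ha : a ≠ 0) : (H.D σ i a : Matrix ι ι F) *ᵥ H.z = H.z := by
  rw [H.D_apply hf i ha]; simp [(H.ze i).1, (H.ze i).2]

end CfsgLib.Classical.UnitTwoGen
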