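/-
Recovering root groups from a diagonal element and a root element times a monomial one.
-/
import Cfsg.Agent.Lib.Classical.UnitTwoGen.Frame

set_option autoImplicit false
set_option linter.unusedSectionVars false

namespace CfsgLib.Classical.UnitTwoGen

open Matrix CfsgLib.Transvec CfsgLib.Transvec.Unitary CfsgLib.Classical.Unitary
open scoped MatrixGroups commutatorElement

/-- An additive property holding at all multiples of a non-zero scalar by powers of an element outside every
proper subfield holds everywhere. -/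
theorem all_of_powers {F : Type*} [Field F] [Fintype F] {α c : F} (hc : c ≠ 0) (hα0 : α ≠ 0)
    (hα : ∀ r, 2 ≤ r → r * r ≤ Fintype.card F → α ^ (r - 1) ≠ 1) (P : F → Prop)
    (hadd : ∀ s t, P s → P t → P (s + t)) (hneg : ∀ t, P t → P (-t))
    (hP : ∀ n : ℕ, P (α ^ n * c)) (t : F) : P t := by
  classical
  have h0 : P 0 := by have := hadd _ _ (hP 0) (hneg _ (hP 0)); rwa [add_neg_cancel] at this
  let R := Subring.closure ({α} : Set F)
  have hmem : ∀ x ∈ R, P (x * c) := by
    intro x hx
    rw [Subring.mem_closure_iff] at hx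
    induction hx using AddSubgroup.closure_induction with
    | mem y hy =>
      obtain ⟨n, rfl⟩ := Submonoid.mem_closure_singleton.1 hy
      exact hP n
    | zero => rw [zero_mul]; exact h0
    | add x y _ _ hx hy => rw [add_mul]; exact hadd _ _ hx hy
    | neg x _ hx => rw [neg_mul]; exact hneg _ hx
  let S : Subfield F :=
    { R with
      inv_mem' := fun x hx => by
        by_cases h : x = 0
        · rw [h, _root_.inv_zero]; exact zero_mem R
        · have hq : 2 ≤ Fintype.card F := Fintype.one_lt_card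
          have e : x⁻¹ = x ^ (Fintype.card F - 2) := by
            refine inv_eq_of_mul_eq_one_right ?_
            rw [← pow_succ', show Fintype.card F - 2 + 1 = Fintype.card F - 1 by omega]
            exact FiniteField.pow_card_sub_one_eq_one x h
          rw [e]; exact pow_mem (show x ∈ R from hx) _ }
  have hS : S = ⊤ := by
    by_contra hne
    have hα' : α ∈ S := Subring.subset_closure rfl
    have h2 : 2 ≤ Fintype.card S := Fintype.one_lt_card
    have hpow : α ^ (Fintype.card S - 1) = 1 :=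
      congrArg Subtype.val (FiniteField.pow_card_sub_one_eq_one (⟨α, hα'⟩ : S)
        fun h => hα0 (congrArg Subtype.val h))
    refine hα _ h2 ?_ hpow
    have hcard : Fintype.card F = Fintype.card S ^ Module.finrank S F := Module.card_eq_pow_finrank
    have hd : 2 ≤ Module.finrank S F := by
      by_contra hd
      have h1 : Module.finrank S F = 1 := by
        have : 0 < Module.finrank S F := Module.finrank_pos
        omega
      rw [h1, pow_one] at hcard
      refine hne (SetLike.coe_injective ?_)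
      rw [Subfield.coe_top]
      exact Set.eq_of_subset_of_card_le (Set.subset_univ _) (by simp [hcard])
    rw [hcard, ← pow_two]
    exact Nat.pow_le_pow_right (by omega) hd
  have ht : t / c ∈ S := hS ▸ Subfield.mem_top _
  have := hmem _ ht
  rwa [div_mul_cancel₀ _ hc] at this

variable {ι : Type} [Fintype ι] [DecidableEq ι] {F : Type*} [Field F] {σ : F ≃+* F}
  {f : (ι → F) → (ι → F) → F}

/-- An element of the root group of `v` in the direction `y`, with its coefficient. -/
def Rep (σ : F ≃+* F) (f : (ι → F) → (ι → F) → F) (v y : ι → F) (g : GL ι F) (t : F) : Prop :=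
  ∃ β, β + σ β + f (t • y) (t • y) = 0 ∧ (f y y = 0 → β = 0) ∧ g = eu f v (t • y) β

/-- The root group of `v` in the direction `y` lies in the subgroup. -/
def Line (σ : F ≃+* F) (f : (ι → F) → (ι → F) → F) (K : Subgroup (GL ι F)) (v y : ι → F) : Prop :=
  ∀ t β : F, β + σ β + f (t • y) (t • y) = 0 → (f y y = 0 → β = 0) → eu f v (t • y) β ∈ K

variable (hf : Cfsg.Geo.IsUnitaryForm σ f) {K : Subgroup (GL ι F)} {v y : ι → F}

include hf

theorem smul_self_form (t : F) : f (t • y) (t • y) = t * σ t * f y y := by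
  rw [hf.smul_left, smul_right' hf, mul_assoc]

theorem eu_smul (c : F) {w : ι → F} (hv : f v v = 0) (hwv : f w v = 0) (b : F) :
    eu f (c • v) w b = eu f v (σ c • w) (c * σ c * b) := by
  refine gl_ext fun x => ?_
  rw [eu_mulVec hf (by rw [smul_self_form hf, hv, mul_zero]) (by rw [smul_right' hf, hwv, mul_zero]),
    eu_mulVec hf hv (by rw [hf.smul_left, hwv, mul_zero]), smul_right' hf, smul_right' hf, hf.involutive]
  module

theorem Rep.mul (hv : f v v = 0) (hyv : f y v = 0) {g g' : GL ι F} {t t' : F} (h : Rep σ f v y g t)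
    (h' : Rep σ f v y g' t') : Rep σ f v y (g * g') (t + t') := by
  obtain ⟨β, hβ, hz, rfl⟩ := h
  obtain ⟨β', hβ', hz', rfl⟩ := h'
  refine ⟨β + β' - f (t' • y) (t • y), ?_, fun h0 => ?_, ?_⟩
  · have e : σ (f (t' • y) (t • y)) = f (t • y) (t' • y) := (hf.herm _ _).symm
    rw [add_smul, hf.add_left, add_right' hf, add_right' hf, map_sub, map_add, e]
    linear_combination hβ + hβ'
  · rw [hz h0, hz' h0, hf.smul_left, smul_right' hf, h0]; ring
  · rw [eu_mul hf hv (by rw [hf.smul_left, hyv, mul_zero]) (by rw [hf.smul_left, hyv, mul_zero]), add_smul]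

theorem Rep.inv (hv : f v v = 0) (hyv : f y v = 0) {g : GL ι F} {t : F} (h : Rep σ f v y g t) :
    Rep σ f v y g⁻¹ (-t) := by
  obtain ⟨β, hβ, hz, rfl⟩ := h
  refine ⟨σ β, ?_, fun h0 => by rw [hz h0, map_zero], inv_eq_of_mul_eq_one_right ?_⟩
  · rw [hf.involutive, neg_smul, ← neg_one_smul F (t • y), hf.smul_left, smul_right' hf, map_neg, map_one]
    linear_combination hβ
  · rw [eu_mul hf hv (by rw [hf.smul_left, hyv, mul_zero]) (by rw [hf.smul_left, hyv, mul_zero]), ← add_smul,
      add_neg_cancel, zero_smul,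
      show β + σ β - f ((-t) • y) (t • y) = 0 by
        rw [neg_smul, ← neg_one_smul F (t • y), hf.smul_left]; linear_combination hβ,
      eu_zero hf hv]
    exact gl_ext fun x => by rw [uT_mulVec hf hv]; simp

theorem Rep.conj (hv : f v v = 0) (hyv : f y v = 0) {g h : GL ι F} (hh : Iso f h) {A B : F}
    (hA : (h : Matrix ι ι F) *ᵥ v = A • v) (hB : (h : Matrix ι ι F) *ᵥ y = B • y) {t : F}
    (hg : Rep σ f v y g t) : Rep σ f v y (h * g * h⁻¹) (σ A * B * t) := by
  obtain ⟨β, hβ, hz, rfl⟩ := hg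
  refine ⟨A * σ A * β, ?_, fun h0 => by rw [hz h0, mul_zero], ?_⟩
  · have e : f y y * (B * σ B) = f y y := by
      have := hh y y
      rw [hB, smul_self_form hf] at this
      linear_combination this
    rw [smul_self_form hf, map_mul, map_mul, map_mul, map_mul, hf.involutive]
    rw [smul_self_form hf] at hβ
    linear_combination (A * σ A) * hβ + (A * σ A * t * σ t) * e
  · rw [conj_eu hf hh hv (by rw [hf.smul_left, hyv, mul_zero]), hA, mulVec_smul, hB,
      eu_smul hf A hv (by rw [smul_smul, hf.smul_left, hyv, mul_zero]), smul_smul, smul_smul]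
    congr 2
    ring

theorem Rep.comm (hv : f v v = 0) (hyv : f y v = 0) {g g' : GL ι F} {t t' : F} (h : Rep σ f v y g t)
    (h' : Rep σ f v y g' t') : ⁅g, g'⁆ = uT f v ((t * σ t' - t' * σ t) * f y y) := by
  obtain ⟨β, -, -, rfl⟩ := h
  obtain ⟨β', -, -, rfl⟩ := h'
  rw [eu_commutator hf hv (by rw [hf.smul_left, hyv, mul_zero]) (by rw [hf.smul_left, hyv, mul_zero]),
    hf.smul_left, hf.smul_left, smul_right' hf, smul_right' hf]
  congr 1
  ring

theorem line_of_all (hv : f v v = 0) (hyv : f y v = 0) (h : ∀ t, ∃ g ∈ K, Rep σ f v y g t) :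
    Line σ f K v y := by
  unfold Line; intro t β hβ hz
  obtain ⟨g, hg, β', hβ', hz', rfl⟩ := h t
  by_cases hyy : f y y = 0
  · rw [hz hyy]; rw [hz' hyy] at hg; exact hg
  -- the centre
  have hT : ∀ c, c + σ c = 0 → uT f v c ∈ K := by
    intro c hc
    obtain ⟨a, ha⟩ := exists_trace_eq hf.ne_refl hf.involutive (b := (1 : F)) (map_one σ)
    set c' := c / f y y with hc'
    obtain ⟨g1, hg1, r1⟩ := h 1
    obtain ⟨g2, hg2, r2⟩ := h (-(a * c'))
    have hσc : σ c' = -c' := by
      rw [hc', map_div₀, self_fixed hf, show σ c = -c by linear_combination hc, neg_div]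
    have hk : ⁅g1, g2⁆ ∈ K := by
      rw [commutatorElement_def]; exact mul_mem (mul_mem (mul_mem hg1 hg2) (inv_mem hg1)) (inv_mem hg2)
    rw [r1.comm hf hv hyv r2, map_neg, map_mul, hσc, map_one] at hk
    rwa [show ((1 : F) * -(σ a * -c') - -(a * c') * 1) * f y y = c by
      rw [show ((1 : F) * -(σ a * -c') - -(a * c') * 1) = (a + σ a) * c' by ring, ha, one_mul, hc',
        div_mul_cancel₀ _ hyy]] at hk
  have e : eu f v (t • y) β = uT f v (β - β') * eu f v (t • y) β' := by
    rw [← eu_zero hf hv, eu_mul hf hv (zero_left' hf v) (by rw [hf.smul_left, hyv, mul_zero]), zero_add,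
      zero_right' hf]
    congr 1
    ring
  rw [e]
  exact mul_mem (hT _ (by rw [map_sub]; linear_combination hβ - hβ')) hg

/-- The extraction. -/
theorem line_of_steinberg [Fintype F] (hv : f v v = 0) (hyv : f y v = 0) {x h h' : GL ι F}
    (hx : Rep σ f v y x 1) (hh : Iso f h) (hh' : Iso f h') {A B A' B' : F}
    (hA : (h : Matrix ι ι F) *ᵥ v = A • v) (hB : (h : Matrix ι ι F) *ᵥ y = B • y)
    (hA' : (h' : Matrix ι ι F) *ᵥ v = A' • v) (hB' : (h' : Matrix ι ι F) *ᵥ y = B' • y)
    (hcomm : Commute h h') (hhK : h ∈ K) (hxK : x * h' * x⁻¹ ∈ K) (hα0 : σ A * B ≠ 0)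
    (hα : ∀ r, 2 ≤ r → r * r ≤ Fintype.card F → (σ A * B) ^ (r - 1) ≠ 1) (hα' : σ A' * B' ≠ 1) (h4 : 2 * 2 ≤ Fintype.card F) :
    Line σ f K v y := by
  set α := σ A * B with hαdef
  have hα1 : α ≠ 1 := fun h => hα 2 le_rfl h4 (by rw [h, one_pow])
  set u := x * (h' * x * h'⁻¹)⁻¹ with hu
  have ru : Rep σ f v y u (1 + -(σ A' * B' * 1)) := hx.mul hf hv hyv ((hx.conj hf hv hyv hh' hA' hB').inv hf hv hyv)
  set g0 := h * u * h⁻¹ * u⁻¹ with hg0
  have hg0K : g0 ∈ K := by
    have e : g0 = ⁅h, x * h' * x⁻¹⁆ := by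
      have e1 : x * h' * x⁻¹ = u * h' := by rw [hu]; group
      rw [e1, commutatorElement_def, _root_.mul_inv_rev]
      have e2 : h' * h⁻¹ = h⁻¹ * h' := (hcomm.symm.inv_right).eq
      calc g0 = h * u * h⁻¹ * u⁻¹ := hg0
        _ = h * u * (h⁻¹ * h') * (h'⁻¹ * u⁻¹) := by group
        _ = h * u * (h' * h⁻¹) * (h'⁻¹ * u⁻¹) := by rw [e2]
        _ = _ := by group
    rw [e, commutatorElement_def]
    exact mul_mem (mul_mem (mul_mem hhK hxK) (inv_mem hhK)) (inv_mem hxK)
  have rg0 := (ru.conj hf hv hyv hh hA hB).mul hf hv hyv (ru.inv hf hv hyv)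
  rw [← hg0] at rg0
  set c := α * (1 + -(σ A' * B' * 1)) + -(1 + -(σ A' * B' * 1)) with hc
  have hc0 : c ≠ 0 := by
    rw [hc, show α * (1 + -(σ A' * B' * 1)) + -(1 + -(σ A' * B' * 1)) = (α - 1) * (1 - σ A' * B') by ring]
    exact mul_ne_zero (sub_ne_zero.2 hα1) (sub_ne_zero.2 (Ne.symm hα'))
  refine line_of_all hf hv hyv fun t => all_of_powers hc0 hα0 hα (fun t => ∃ g ∈ K, Rep σ f v y g t) ?_ ?_ ?_ t
  · rintro s t ⟨g, hg, r⟩ ⟨g', hg', r'⟩
    exact ⟨g * g', mul_mem hg hg', r.mul hf hv hyv r'⟩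
  · rintro t ⟨g, hg, r⟩
    exact ⟨g⁻¹, inv_mem hg, r.inv hf hv hyv⟩
  · intro n
    induction n with
    | zero => exact ⟨g0, hg0K, by rw [pow_zero, one_mul]; exact rg0⟩
    | succ n ih =>
      obtain ⟨g, hg, r⟩ := ih
      refine ⟨h * g * h⁻¹, mul_mem (mul_mem hhK hg) (inv_mem hhK), ?_⟩
      rw [pow_succ', mul_assoc α]
      exact r.conj hf hv hyv hh hA hB

end CfsgLib.Classical.UnitTwoGen
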