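/-
The signed cycle and one root group generate the transvection group.
-/
import Cfsg.Agent.Lib.Classical.UnitTwoGen.Gen

set_option autoImplicit false
set_option linter.unusedSectionVars false

namespace CfsgLib.Classical.UnitTwoGen

open Matrix CfsgLib.Transvec CfsgLib.Transvec.Unitary CfsgLib.Classical.Unitary
open scoped MatrixGroups commutatorElement

variable {ι : Type} [Fintype ι] [DecidableEq ι] {F : Type*} [Field F] {σ : F ≃+* F}
  {f : (ι → F) → (ι → F) → F}

/-- The root group of two orthogonal isotropic vectors lies in the subgroup. -/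
def Root (f : (ι → F) → (ι → F) → F) (K : Subgroup (GL ι F)) (u v : ι → F) : Prop :=
  f u u = 0 ∧ f v v = 0 ∧ f u v = 0 ∧ f v u = 0 ∧ ∀ t : F, eu f u (t • v) 0 ∈ K

variable (hf : Cfsg.Geo.IsUnitaryForm σ f) {K : Subgroup (GL ι F)}

include hf

theorem Root.move {u v : ι → F} (h : Root f K u v) {g : GL ι F} (hg : g ∈ K) (hi : Iso f g) :
    Root f K ((g : Matrix ι ι F) *ᵥ u) ((g : Matrix ι ι F) *ᵥ v) := by
  obtain ⟨h1, h2, h3, h4, h5⟩ := h
  refine ⟨by rw [hi]; exact h1, by rw [hi]; exact h2, by rw [hi]; exact h3, by rw [hi]; exact h4, fun t => ?_⟩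
  rw [← mulVec_smul, ← conj_eu hf hi h1 (by rw [hf.smul_left, h4, mul_zero])]
  exact mul_mem (mul_mem hg (h5 t)) (inv_mem hg)

theorem Root.unscale {u v : ι → F} {a c : F} (h : Root f K (a • u) (c • v)) (ha : a ≠ 0) (hc : c ≠ 0) :
    Root f K u v := by
  obtain ⟨h1, h2, h3, h4, h5⟩ := h
  have hσa : σ a ≠ 0 := (map_ne_zero_iff _ σ.injective).2 ha
  have hσc : σ c ≠ 0 := (map_ne_zero_iff _ σ.injective).2 hc
  rw [smul_self_form hf, mul_eq_zero, or_iff_right (mul_ne_zero ha hσa)] at h1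
  rw [smul_self_form hf, mul_eq_zero, or_iff_right (mul_ne_zero hc hσc)] at h2
  rw [hf.smul_left, smul_right' hf] at h3 h4
  have h3' : f u v = 0 := by simpa [ha, hσc] using h3
  have h4' : f v u = 0 := by simpa [hc, hσa] using h4
  refine ⟨h1, h2, h3', h4', fun t => ?_⟩
  have := h5 (t / (σ a * c))
  rwa [eu_smul hf a h1 (by rw [hf.smul_left, hf.smul_left, h4', mul_zero, mul_zero]), mul_zero, smul_smul,
    smul_smul, show σ a * (t / (σ a * c)) * c = t by field_simp] at this

theorem Root.symm {u v : ι → F} (h : Root f K u v) : Root f K v u := by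
  obtain ⟨h1, h2, h3, h4, h5⟩ := h
  refine ⟨h2, h1, h4, h3, fun t => ?_⟩
  have e : eu f v (t • u) 0 = eu f u ((-σ t) • v) 0 := gl_ext fun x => by
    rw [eu_mulVec hf h2 (by rw [hf.smul_left, h3, mul_zero]), eu_mulVec hf h1 (by rw [hf.smul_left, h4, mul_zero]),
      smul_right' hf, smul_right' hf, map_neg, hf.involutive]
    module
  rw [e]; exact h5 _

/-- Composition of root groups through a pair `v, v'`. -/
theorem Root.comp {u v v' x : ι → F} (h : Root f K u v') (h' : Root f K v x) (hvv : f v' v = 1)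
    (huv : f u v = 0) (hux : f u x = 0) (hvx : f v' x = 0) : Root f K u x := by
  obtain ⟨h1, h2, h3, h4, h5⟩ := h
  obtain ⟨g1, g2, g3, g4, g5⟩ := h'
  have hxu : f x u = 0 := (eq_zero_comm hf).mp hux
  refine ⟨h1, g2, hux, hxu, fun t => ?_⟩
  have hg : eu f v ((1 : F) • x) 0 ∈ K := g5 1
  have hi : Iso f (eu f v ((1 : F) • x) 0) :=
    iso_eu hf g1 (by rw [hf.smul_left, g4, mul_zero]) (by rw [smul_self_form hf, g2, mul_zero, map_zero]; simp)
  have hgu : (eu f v ((1 : F) • x) 0 : Matrix ι ι F) *ᵥ u = u := by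
    rw [eu_mulVec hf g1 (by rw [hf.smul_left, g4, mul_zero]), huv, smul_right' hf, hux]
    simp
  have hgv : (eu f v ((1 : F) • x) 0 : Matrix ι ι F) *ᵥ (t • v') = t • v' + t • x := by
    rw [mulVec_smul, eu_mulVec hf g1 (by rw [hf.smul_left, g4, mul_zero]), hvv, smul_right' hf, hvx]
    simp
  have hm := mul_mem (mul_mem hg (h5 t)) (inv_mem hg)
  rw [conj_eu hf hi h1 (by rw [hf.smul_left, h4, mul_zero]), hgu, hgv] at hm
  have hm' := mul_mem hm (h5 (-t))
  rwa [eu_mul hf h1 (by rw [hf.add_left, hf.smul_left, hf.smul_left, h4, hxu]; simp)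
      (by rw [hf.smul_left, h4, mul_zero]),
    show t • v' + t • x + (-t) • v' = t • x by module,
    show (0 : F) + 0 - f ((-t) • v') (t • v' + t • x) = 0 by
      rw [hf.smul_left, add_right' hf, smul_right' hf, smul_right' hf, h2, hvx]; simp] at hm'

variable {k : ℕ} (H : HFrame f k)

theorem root_of_lines {u v : ι → F} (hu : f u u = 0) (hv : f v v = 0) (huv : f u v = 0) (hzu : f H.z u = 0)
    (hzv : f H.z v = 0) (hz : f H.z H.z ≠ 0) (hLu : Line σ f K u H.z) (hLv : Line σ f K v H.z) :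
    Root f K v u := by
  have hvu : f v u = 0 := (eq_zero_comm hf).mp huv
  refine ⟨hv, hu, hvu, huv, fun r => ?_⟩
  obtain ⟨β, hβ⟩ := exists_trace_eq hf.ne_refl hf.involutive (b := -f ((1 : F) • H.z) ((1 : F) • H.z))
    (by rw [map_neg, self_fixed hf])
  set t := -r / f H.z H.z with ht
  obtain ⟨β', hβ'⟩ := exists_trace_eq hf.ne_refl hf.involutive (b := -f (t • H.z) (t • H.z))
    (by rw [map_neg, self_fixed hf])
  have hg : eu f u ((1 : F) • H.z) β ∈ K := hLu 1 β (by linear_combination hβ) fun h => absurd h hz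
  have hi : Iso f (eu f u ((1 : F) • H.z) β) :=
    iso_eu hf hu (by rw [hf.smul_left, hzu, mul_zero]) (by linear_combination hβ)
  have hgv : (eu f u ((1 : F) • H.z) β : Matrix ι ι F) *ᵥ v = v := by
    rw [eu_mulVec hf hu (by rw [hf.smul_left, hzu, mul_zero]), hvu, smul_right' hf, (eq_zero_comm hf).mp hzv]
    simp
  have hgz : (eu f u ((1 : F) • H.z) β : Matrix ι ι F) *ᵥ (t • H.z) = t • H.z + r • u := by
    rw [eu_mulVec hf hu (by rw [hf.smul_left, hzu, mul_zero]), hf.smul_left, hzu, one_smul, hf.smul_left, ht,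
      div_mul_cancel₀ _ hz]
    simp
  have hm := mul_mem (mul_mem hg (hLv t β' (by linear_combination hβ') fun h => absurd h hz)) (inv_mem hg)
  rw [conj_eu hf hi hv (by rw [hf.smul_left, hzv, mul_zero]), hgv, hgz] at hm
  have hm' := mul_mem hm (hLv (-t) (σ β') (by
    rw [hf.involutive, smul_self_form hf, map_neg]
    rw [smul_self_form hf] at hβ'
    linear_combination hβ') fun h => absurd h hz)
  rwa [eu_mul hf hv (by rw [hf.add_left, hf.smul_left, hf.smul_left, hzv, huv]; simp)
      (by rw [hf.smul_left, hzv, mul_zero]),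
    show t • H.z + r • u + (-t) • H.z = r • u by module,
    show β' + σ β' - f ((-t) • H.z) (t • H.z + r • u) = 0 by
      rw [hf.smul_left, add_right' hf, smul_right' hf, smul_right' hf, hzu, hβ', smul_self_form hf]; ring] at hm'

theorem HFrame.cycle_roots (hk : 1 < k) {w : GL ι F} (hw : H.IsCycle w (by omega)) (hwK : w ∈ K)
    (h : Root f K (H.e ⟨0, by omega⟩) (H.d ⟨1, hk⟩)) (i j : Fin k) (hij : i ≠ j) :
    Root f K (H.e i) (H.d j) ∧ Root f K (H.e i) (H.e j) ∧ Root f K (H.d i) (H.d j) := by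
  obtain ⟨c, c', hc, hc', hce, hcd⟩ := hw.last
  set i0 : Fin k := ⟨0, by omega⟩ with hi0
  set l : Fin k := ⟨k - 1, by omega⟩ with hl
  have hA : ∀ n, ∀ hn : n + 1 < k, Root f K (H.e ⟨n, by omega⟩) (H.d ⟨n + 1, hn⟩) := by
    intro n
    induction n with
    | zero => intro _; exact h
    | succ n ih =>
      intro hn
      have := (ih (by omega)).move hf hwK hw.iso
      rwa [(hw.step ⟨n, by omega⟩ ⟨n + 1, by omega⟩ rfl).1,
        (hw.step ⟨n + 1, by omega⟩ ⟨n + 1 + 1, hn⟩ rfl).2] at this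
  have hS : Root f K (H.e l) (H.e i0) := by
    have := (hA (k - 2) (by omega)).move hf hwK hw.iso
    simp only [show k - 2 + 1 = k - 1 by omega] at this
    rw [(hw.step ⟨k - 2, by omega⟩ l (show k - 2 + 1 = k - 1 by omega)).1, hcd, ← one_smul F (H.e l)] at this
    exact this.unscale hf one_ne_zero hc'
  have hB : ∀ n, ∀ hn : n + 1 < k, Root f K (H.d ⟨n, by omega⟩) (H.e ⟨n + 1, hn⟩) := by
    intro n
    induction n with
    | zero =>
      intro hn
      have := hS.move hf hwK hw.iso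
      rw [hce, (hw.step i0 ⟨1, hk⟩ rfl).1, ← one_smul F (H.e (⟨1, hk⟩ : Fin k))] at this
      exact this.unscale hf hc one_ne_zero
    | succ n ih =>
      intro hn
      have := (ih (by omega)).move hf hwK hw.iso
      rwa [(hw.step ⟨n, by omega⟩ ⟨n + 1, by omega⟩ rfl).2,
        (hw.step ⟨n + 1, by omega⟩ ⟨n + 1 + 1, hn⟩ rfl).1] at this
  have hD : Root f K (H.d l) (H.d i0) := by
    have := (hB (k - 2) (by omega)).move hf hwK hw.iso
    simp only [show k - 2 + 1 = k - 1 by omega] at this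
    rw [(hw.step ⟨k - 2, by omega⟩ l (show k - 2 + 1 = k - 1 by omega)).2, hce, ← one_smul F (H.d l)] at this
    exact this.unscale hf one_ne_zero hc
  have hchain : ∀ a b, ∀ hb : b < k, ∀ hab : a < b,
      Root f K (H.e ⟨a, by omega⟩) (H.d ⟨b, hb⟩) ∧ Root f K (H.d ⟨a, by omega⟩) (H.e ⟨b, hb⟩) := by
    intro a b
    induction b with
    | zero => intro _ h; omega
    | succ b ih =>
      intro hb hab
      rcases Nat.eq_or_lt_of_le (Nat.le_of_lt_succ hab) with rfl | hlt
      · exact ⟨hA a hb, hB a hb⟩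
      · obtain ⟨h1, h2⟩ := ih (by omega) hlt
        have n1 : (⟨a, by omega⟩ : Fin k) ≠ ⟨b, by omega⟩ := by simp; omega
        have n2 : (⟨a, by omega⟩ : Fin k) ≠ ⟨b + 1, hb⟩ := by simp; omega
        have n3 : (⟨b, by omega⟩ : Fin k) ≠ ⟨b + 1, hb⟩ := by simp
        exact ⟨h1.comp hf (hA b hb) (by simp [H.de]) (H.ee _ _) (by simp [H.ed, n2]) (H.dd _ _),
          h2.comp hf (hB b hb) (by simp [H.ed]) (H.dd _ _) (by simp [H.de, n2]) (H.ee _ _)⟩
  have hGL : ∀ i j : Fin k, i ≠ j → Root f K (H.e i) (H.d j) := by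
    intro i j hne
    rcases lt_or_gt_of_ne (show i.val ≠ j.val from fun e => hne (Fin.ext e)) with hlt | hlt
    · exact (hchain i.val j.val j.isLt hlt).1
    · exact (hchain j.val i.val i.isLt hlt).2.symm hf
  refine ⟨hGL i j hij, ?_, ?_⟩
  · have h0 : ∀ i, i ≠ i0 → Root f K (H.e i0) (H.e i) := fun i hi => by
      by_cases hil : i = l
      · subst hil; exact hS.symm hf
      · have hl0 : l ≠ i0 := by simp [hl, hi0]; omega
        exact (hS.symm hf).comp hf ((hGL i l hil).symm hf) (by simp [H.ed]) (by simp [H.ed, Ne.symm hl0])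
          (H.ee _ _) (H.ee _ _)
    by_cases hj : j = i0
    · subst hj; exact (h0 i hij).symm hf
    by_cases hi : i = i0
    · subst hi; exact h0 j hj
    exact ((h0 i hi).symm hf).comp hf ((hGL j i0 hj).symm hf) (by simp [H.ed]) (by simp [H.ed, hi]) (H.ee _ _)
      (H.ee _ _)
  · have h0 : ∀ i, i ≠ i0 → Root f K (H.d i0) (H.d i) := fun i hi => by
      by_cases hil : i = l
      · subst hil; exact hD.symm hf
      · have hl0 : l ≠ i0 := by simp [hl, hi0]; omega
        exact (hD.symm hf).comp hf (hGL l i (Ne.symm hil)) (by simp [H.de]) (by simp [H.de, Ne.symm hl0])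
          (H.dd _ _) (H.dd _ _)
    by_cases hj : j = i0
    · subst hj; exact (h0 i hij).symm hf
    by_cases hi : i = i0
    · subst hi; exact h0 j hj
    exact ((h0 i hi).symm hf).comp hf (hGL i0 j (Ne.symm hj)) (by simp [H.de]) (by simp [H.de, hi]) (H.dd _ _)
      (H.dd _ _)

/-- All root elements at one basis vector. -/
theorem HFrame.short_all {v : ι → F} (hv : f v v = 0)
    (hT : ∀ c, c + σ c = 0 → uT f v c ∈ K)
    (he : ∀ i, H.e i = v ∨ Root f K v (H.e i) ∨ v = H.d i)
    (hd : ∀ i, H.d i = v ∨ Root f K v (H.d i) ∨ v = H.e i)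
    (hzv : f H.z v = 0) (hz : H.z = 0 ∨ Line σ f K v H.z ∧ f H.z H.z ≠ 0)
    {w : ι → F} (hw : f w v = 0) {b : F} (hb : b + σ b + f w w = 0) : eu f v w b ∈ K := by
  let S : AddSubmonoid (ι → F) :=
    { carrier := {x | f x v = 0 ∧ ∃ b, b + σ b + f x x = 0 ∧ eu f v x b ∈ K}
      zero_mem' := ⟨zero_left' hf v, 0, by rw [zero_left' hf]; simp, by
        rw [eu_zero hf hv]; exact hT 0 (by simp)⟩
      add_mem' := by
        rintro x y ⟨hx, b, hb, hxK⟩ ⟨hy, b', hb', hyK⟩
        refine ⟨by rw [hf.add_left, hx, hy, add_zero], b + b' - f y x, ?_, ?_⟩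
        · have e : σ (f y x) = f x y := (hf.herm _ _).symm
          rw [hf.add_left, add_right' hf, add_right' hf, map_sub, map_add, e]
          linear_combination hb + hb'
        · rw [← eu_mul hf hv hx hy]; exact mul_mem hxK hyK }
  have hroot : ∀ p, Root f K v p → ∀ t : F, t • p ∈ S := fun p hp t =>
    ⟨by rw [hf.smul_left, hp.2.2.2.1, mul_zero], 0, by rw [smul_self_form hf, hp.2.1]; simp, hp.2.2.2.2 t⟩
  have hself : ∀ t : F, t • v ∈ S := fun t => by
    refine ⟨by rw [hf.smul_left, hv, mul_zero], 0, by rw [smul_self_form hf, hv]; simp, ?_⟩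
    have e : eu f v (t • v) 0 = uT f v (t - σ t) := gl_ext fun x => by
      rw [eu_mulVec hf hv (by rw [hf.smul_left, hv, mul_zero]), uT_mulVec hf hv, smul_right' hf]
      module
    rw [e]; exact hT _ (by rw [map_sub, hf.involutive]; ring)
  obtain ⟨c, hc⟩ := H.decomp hf w
  have hwS : w ∈ S := by
    rw [hc]
    refine add_mem ?_ (sum_mem fun i _ => add_mem ?_ ?_)
    · rcases hz with hz | ⟨hz, hzz⟩
      · rw [hz, smul_zero]; exact zero_mem S
      · obtain ⟨a, ha⟩ := exists_trace_eq hf.ne_refl hf.involutive (b := -f (c • H.z) (c • H.z))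
          (by rw [map_neg, self_fixed hf])
        exact ⟨by rw [hf.smul_left, hzv, mul_zero], a, by linear_combination ha,
          hz c a (by linear_combination ha) fun h => absurd h hzz⟩
    · rcases he i with h | h | h
      · rw [h]; exact hself _
      · exact hroot _ h _
      · rw [← h, hw, zero_smul]; exact zero_mem S
    · rcases hd i with h | h | h
      · rw [h]; exact hself _
      · exact hroot _ h _
      · rw [← h, hw, zero_smul]; exact zero_mem S
  obtain ⟨-, b', hb', hK⟩ := hwS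
  have e : eu f v w b = uT f v (b - b') * eu f v w b' := by
    rw [← eu_zero hf hv, eu_mul hf hv (zero_left' hf v) hw, zero_add, zero_right' hf]
    congr 1
    ring
  rw [e]
  exact mul_mem (hT _ (by rw [map_sub]; linear_combination hb - hb')) hK

/-- A short root element carrying an isotropic vector to another. -/
theorem exists_eu_move {v u u' : ι → F} (hv : f v v = 0) (hu : f u u = 0) (hu' : f u' u' = 0)
    (h : f u v = f u' v) (hb : f u v ≠ 0) :
    ∃ w b, f w v = 0 ∧ b + σ b + f w w = 0 ∧ (eu f v w b : Matrix ι ι F) *ᵥ u = u' := by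
  obtain ⟨t, ht⟩ : ∃ t, t = f u v := ⟨_, rfl⟩
  have ht0 : t ≠ 0 := ht ▸ hb
  obtain ⟨w, hw⟩ : ∃ w, w = t⁻¹ • (u' - u) := ⟨_, rfl⟩
  have hwv : f w v = 0 := by rw [hw, hf.smul_left, sub_left' hf, h, sub_self, mul_zero]
  have huw : f u w = σ t⁻¹ * f u u' := by rw [hw, smul_right' hf, sub_right' hf, hu, sub_zero]
  have hww : f w w = -(t⁻¹ * σ t⁻¹ * (f u u' + f u' u)) := by
    rw [hw, hf.smul_left, smul_right' hf, sub_left' hf, sub_right' hf, sub_right' hf, hu, hu']
    ring
  refine ⟨w, f u w / t, hwv, ?_, ?_⟩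
  · rw [hww, huw, map_div₀, map_mul, hf.involutive, ← hf.herm, map_inv₀]
    field_simp
    ring
  · rw [eu_mulVec hf hv hwv, ← ht, div_mul_cancel₀ _ ht0, sub_self, zero_smul, add_zero, hw,
      smul_inv_smul₀ ht0, add_sub_cancel]

/-- The closing step. -/
theorem HFrame.transvGroup_le_of_cycle (hk : 0 < k) {w : GL ι F} (hw : H.IsCycle w hk) (hwK : w ∈ K)
    (hcase : (∃ h1 : 1 < k, H.z = 0 ∧ Root f K (H.e ⟨0, hk⟩) (H.d ⟨1, h1⟩)) ∨
      (f H.z H.z ≠ 0 ∧ Line σ f K (H.e ⟨0, hk⟩) H.z)) :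
    transvGroup σ f ≤ K := by
  obtain ⟨c, c', hc, hc', hce, hcd⟩ := hw.last
  -- the data at every basis vector
  obtain ⟨hroots, hTe, hTd, hzline⟩ : (∀ i j : Fin k, i ≠ j →
        Root f K (H.e i) (H.d j) ∧ Root f K (H.e i) (H.e j) ∧ Root f K (H.d i) (H.d j)) ∧
      (∀ i a, a + σ a = 0 → uT f (H.e i) a ∈ K) ∧ (∀ i a, a + σ a = 0 → uT f (H.d i) a ∈ K) ∧
      (H.z = 0 ∨ f H.z H.z ≠ 0 ∧ ∀ i, Line σ f K (H.e i) H.z ∧ Line σ f K (H.d i) H.z) := by
    rcases hcase with ⟨h1, hz, hR⟩ | ⟨hz, hL⟩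
    · have hroots := H.cycle_roots hf h1 hw hwK hR
      have hcomm : ∀ (v x x' : ι → F), Root f K v x → Root f K v x' → f x x' = 1 →
          ∀ a, a + σ a = 0 → uT f v a ∈ K := by
        intro v x x' hx hx' hxx a ha
        obtain ⟨e, he⟩ := exists_trace_eq hf.ne_refl hf.involutive (b := (1 : F)) (map_one σ)
        have hm : ⁅eu f v ((1 : F) • x) 0, eu f v ((-(e * a)) • x') 0⁆ ∈ K := by
          rw [commutatorElement_def]
          exact mul_mem (mul_mem (mul_mem (hx.2.2.2.2 1) (hx'.2.2.2.2 _)) (inv_mem (hx.2.2.2.2 1)))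
            (inv_mem (hx'.2.2.2.2 _))
        rwa [eu_commutator hf hx.1 (by rw [hf.smul_left, hx.2.2.2.1, mul_zero])
          (by rw [hf.smul_left, hx'.2.2.2.1, mul_zero]), hf.smul_left, hf.smul_left, smul_right' hf,
          smul_right' hf, hxx, hf.herm x' x, hxx, map_one, map_neg, map_mul,
          show σ a = -a by linear_combination ha,
          show (1 : F) * (-(σ e * -a) * 1) - -(e * a) * (1 * 1) = (e + σ e) * a by ring, he, one_mul] at hm
      have hother : ∀ i : Fin k, ∃ j, i ≠ j := fun i => by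
        by_cases h : i.val = 0
        · exact ⟨⟨1, h1⟩, fun e => by rw [e] at h; simp at h⟩
        · exact ⟨⟨0, hk⟩, fun e => h (by rw [e])⟩
      refine ⟨hroots, fun i a ha => ?_, fun i a ha => ?_, Or.inl hz⟩
      · obtain ⟨j, hj⟩ := hother i
        exact hcomm _ _ _ (hroots i j hj).2.1 (hroots i j hj).1 (by simp [H.ed]) a ha
      · obtain ⟨j, hj⟩ := hother i
        exact hcomm _ _ _ ((hroots j i hj.symm).1.symm hf) (hroots i j hj).2.2 (by simp [H.ed]) a ha
    · have hmove : ∀ v, f v v = 0 → f H.z v = 0 → Line σ f K v H.z →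
          Line σ f K ((w : Matrix ι ι F) *ᵥ v) H.z := by
        intro v hv hzv h t β hβ h0
        have hm := mul_mem (mul_mem hwK (h t β hβ h0)) (inv_mem hwK)
        rwa [conj_eu hf hw.iso hv (by rw [hf.smul_left, hzv, mul_zero]), mulVec_smul, hw.z] at hm
      have hun : ∀ (v : ι → F) (a : F), a ≠ 0 → f v v = 0 → f H.z v = 0 → Line σ f K (a • v) H.z → Line σ f K v H.z := by
        intro v a ha hv hzv h t β hβ h0
        have hσa : σ a ≠ 0 := (map_ne_zero_iff _ σ.injective).2 ha
        rw [smul_self_form hf] at hβ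
        have hm := h (t / σ a) (β / (a * σ a)) (by
          rw [smul_self_form hf, map_div₀, map_div₀, map_mul, hf.involutive]
          field_simp
          linear_combination hβ) (fun h' => absurd h' hz)
        rwa [eu_smul hf a hv (by rw [hf.smul_left, hzv, mul_zero]), smul_smul, mul_div_cancel₀ _ hσa,
          mul_div_cancel₀ _ (mul_ne_zero ha hσa)] at hm
      have hLe : ∀ n, ∀ hn : n < k, Line σ f K (H.e ⟨n, hn⟩) H.z := by
        intro n
        induction n with
        | zero => intro _; exact hL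
        | succ n ih =>
          intro hn
          have := hmove _ (H.ee _ _) (H.ze _).1 (ih (by omega))
          rwa [(hw.step ⟨n, by omega⟩ ⟨n + 1, hn⟩ rfl).1] at this
      have hLd : ∀ n, ∀ hn : n < k, Line σ f K (H.d ⟨n, hn⟩) H.z := by
        intro n
        induction n with
        | zero =>
          intro _
          have := hmove _ (H.ee _ _) (H.ze _).1 (hLe (k - 1) (by omega))
          rw [hce] at this
          exact hun _ c hc (H.dd _ _) (H.ze _).2 this
        | succ n ih =>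
          intro hn
          have := hmove _ (H.dd _ _) (H.ze _).2 (ih (by omega))
          rwa [(hw.step ⟨n, by omega⟩ ⟨n + 1, hn⟩ rfl).2] at this
      have hTz : ∀ v, f v v = 0 → Line σ f K v H.z → ∀ a, a + σ a = 0 → uT f v a ∈ K := by
        intro v hv h a ha
        have := h 0 a (by rw [zero_smul, zero_left' hf, add_zero]; exact ha) (fun h' => absurd h' hz)
        rwa [zero_smul, eu_zero hf hv] at this
      refine ⟨fun i j hij => ⟨?_, ?_, ?_⟩, fun i => hTz _ (H.ee i i) (hLe i.val i.isLt),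
        fun i => hTz _ (H.dd i i) (hLd i.val i.isLt),
        Or.inr ⟨hz, fun i => ⟨hLe i.val i.isLt, hLd i.val i.isLt⟩⟩⟩
      · exact root_of_lines hf H (H.dd j j) (H.ee i i) (by simp [H.de, hij.symm]) (H.ze j).2 (H.ze i).1 hz
          (hLd j.val j.isLt) (hLe i.val i.isLt)
      · exact root_of_lines hf H (H.ee j j) (H.ee i i) (H.ee j i) (H.ze j).1 (H.ze i).1 hz (hLe j.val j.isLt)
          (hLe i.val i.isLt)
      · exact root_of_lines hf H (H.dd j j) (H.dd i i) (H.dd j i) (H.ze j).2 (H.ze i).2 hz (hLd j.val j.isLt)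
          (hLd i.val i.isLt)
  have hAllE : ∀ l w b, f w (H.e l) = 0 → b + σ b + f w w = 0 → eu f (H.e l) w b ∈ K := by
    intro l x b hx hb
    refine H.short_all hf (H.ee l l) (hTe l) (fun i => ?_) (fun i => ?_) (H.ze l).1
      (hzline.imp id fun h => ⟨(h.2 l).1, h.1⟩) hx hb
    · by_cases h : i = l
      · exact Or.inl (by rw [h])
      · exact Or.inr (Or.inl (hroots l i (Ne.symm h)).2.1)
    · by_cases h : i = l
      · exact Or.inr (Or.inr (by rw [h]))
      · exact Or.inr (Or.inl (hroots l i (Ne.symm h)).1)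
  have hAllD : ∀ l w b, f w (H.d l) = 0 → b + σ b + f w w = 0 → eu f (H.d l) w b ∈ K := by
    intro l x b hx hb
    refine H.short_all hf (H.dd l l) (hTd l) (fun i => ?_) (fun i => ?_) (H.ze l).2
      (hzline.imp id fun h => ⟨(h.2 l).2, h.1⟩) hx hb
    · by_cases h : i = l
      · exact Or.inr (Or.inr (by rw [h]))
      · exact Or.inr (Or.inl ((hroots i l h).1.symm hf))
    · by_cases h : i = l
      · exact Or.inl (by rw [h])
      · exact Or.inr (Or.inl (hroots l i (Ne.symm h)).2.2)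
  refine (Subgroup.closure_le K).2 ?_
  rintro _ ⟨v, a, hv, ha, rfl⟩
  have hpull : ∀ (g : GL ι F) (p : ι → F) (r : F), g ∈ K → Iso f g → f p p = 0 →
      (∀ a, a + σ a = 0 → uT f p a ∈ K) → (g : Matrix ι ι F) *ᵥ v = r • p → uT f v a ∈ K := by
    intro g p r hg hi hp hTp hgv
    have h1 : uT f (r • p) a = uT f p (r * σ r * a) := gl_ext fun x => by
      rw [uT_mulVec hf (by rw [smul_self_form hf, hp, mul_zero]), uT_mulVec hf hp, smul_right' hf]
      module
    have hm : uT f (r • p) a ∈ K := h1 ▸ hTp _ (by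
      rw [map_mul, map_mul, hf.involutive]; linear_combination (r * σ r) * ha)
    rw [← hgv, ← conj_uT hf hi hv] at hm
    have := mul_mem (mul_mem (inv_mem hg) hm) hg
    rwa [show g⁻¹ * (g * uT f v a * g⁻¹) * g = uT f v a by group] at this
  by_cases hex : ∃ i, f v (H.e i) ≠ 0 ∨ f v (H.d i) ≠ 0
  · obtain ⟨i, hi | hi⟩ := hex
    · obtain ⟨x, b, hx, hb, hmv⟩ := exists_eu_move hf (H.ee i i) hv (u' := f v (H.e i) • H.d i)
        (by rw [smul_self_form hf, H.dd, mul_zero]) (by rw [hf.smul_left, H.de, if_pos rfl, mul_one]) hi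
      exact hpull _ (H.d i) _ (hAllE i x b hx hb) (iso_eu hf (H.ee i i) hx hb) (H.dd i i) (hTd i) hmv
    · obtain ⟨x, b, hx, hb, hmv⟩ := exists_eu_move hf (H.dd i i) hv (u' := f v (H.d i) • H.e i)
        (by rw [smul_self_form hf, H.ee, mul_zero]) (by rw [hf.smul_left, H.ed, if_pos rfl, mul_one]) hi
      exact hpull _ (H.e i) _ (hAllD i x b hx hb) (iso_eu hf (H.dd i i) hx hb) (H.ee i i) (hTe i) hmv
  · push Not at hex
    obtain ⟨r, hr⟩ := H.cover v hex
    have hv0 : v = 0 := by
      rcases hzline with hz | ⟨hz, -⟩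
      · rw [hr, hz, smul_zero]
      · rw [hr, smul_self_form hf, mul_eq_zero, or_iff_left hz, mul_eq_zero] at hv
        rcases hv with h | h
        · rw [hr, h, zero_smul]
        · rw [hr, (map_eq_zero_iff _ σ.injective).1 h, zero_smul]
    have : uT f v a = 1 := gl_ext fun x => by rw [uT_mulVec hf hv, hv0]; simp
    rw [this]; exact one_mem K

end CfsgLib.Classical.UnitTwoGen
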