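/-
The special unitary group over a finite field is generated by two elements.
-/
import Cfsg.Agent.Lib.Classical.UnitTwoGen.Closure
import Cfsg.Agent.Lib.Classical.UnitaryPSU

set_option autoImplicit false
set_option linter.unusedSectionVars false

namespace CfsgLib.Classical.UnitTwoGen

open Matrix CfsgLib.Transvec CfsgLib.Transvec.Unitary CfsgLib.Classical.Unitary
open scoped MatrixGroups

variable {ι : Type} [Fintype ι] [DecidableEq ι] {F : Type*} [Field F] {σ : F ≃+* F}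
  {f : (ι → F) → (ι → F) → F} (hf : Cfsg.Geo.IsUnitaryForm σ f) {k : ℕ} (H : HFrame f k)

/-- Every frame vector is an eigenvector. -/
def HFrame.Diag (g : GL ι F) : Prop :=
  (∀ i, ∃ a : F, (g : Matrix ι ι F) *ᵥ H.e i = a • H.e i) ∧
    (∀ i, ∃ a : F, (g : Matrix ι ι F) *ᵥ H.d i = a • H.d i) ∧ ∃ a : F, (g : Matrix ι ι F) *ᵥ H.z = a • H.z

theorem conj_eigen (w h : GL ι F) {u v : ι → F} {c a : F} (hc : c ≠ 0)
    (hw : (w : Matrix ι ι F) *ᵥ u = c • v) (hh : (h : Matrix ι ι F) *ᵥ u = a • u) :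
    ((w * h * w⁻¹ : GL ι F) : Matrix ι ι F) *ᵥ v = a • v := by
  have hv : v = c⁻¹ • ((w : Matrix ι ι F) *ᵥ u) := by rw [hw, inv_smul_smul₀ hc]
  have e : ((w⁻¹ : GL ι F) : Matrix ι ι F) *ᵥ ((w : Matrix ι ι F) *ᵥ u) = u := by
    rw [← mul_mulVec, inv_mul_cancel, Units.val_one, one_mulVec]
  rw [hv, mulVec_smul, mul_mulVec, mul_mulVec, e, hh, mulVec_smul, smul_comm]

include hf

theorem HFrame.diag_commute {g h : GL ι F} (hg : H.Diag g) (hh : H.Diag h) : Commute g h := by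
  refine H.ext hf (fun i => ?_) (fun i => ?_) ?_
  · obtain ⟨a, ha⟩ := hg.1 i; obtain ⟨b, hb⟩ := hh.1 i
    rw [mul_mulVec, mul_mulVec, ha, hb, mulVec_smul, mulVec_smul, ha, hb, smul_comm]
  · obtain ⟨a, ha⟩ := hg.2.1 i; obtain ⟨b, hb⟩ := hh.2.1 i
    rw [mul_mulVec, mul_mulVec, ha, hb, mulVec_smul, mulVec_smul, ha, hb, smul_comm]
  · obtain ⟨a, ha⟩ := hg.2.2; obtain ⟨b, hb⟩ := hh.2.2
    rw [mul_mulVec, mul_mulVec, ha, hb, mulVec_smul, mulVec_smul, ha, hb, smul_comm]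

theorem HFrame.diag_conj (hk : 0 < k) {w h : GL ι F} (hw : H.IsCycle w hk) (hh : H.Diag h) :
    H.Diag (w * h * w⁻¹) := by
  obtain ⟨c, c', hc, hc', hce, hcd⟩ := hw.last
  refine ⟨fun i => ?_, fun i => ?_, ?_⟩
  · by_cases h0 : i.val = 0
    · obtain ⟨a, ha⟩ := hh.2.1 ⟨k - 1, by omega⟩
      obtain rfl : i = ⟨0, hk⟩ := Fin.ext h0
      exact ⟨a, conj_eigen w h hc' hcd ha⟩
    · obtain ⟨a, ha⟩ := hh.1 ⟨i.val - 1, by omega⟩
      exact ⟨a, conj_eigen w h one_ne_zero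
        (by rw [one_smul]; exact (hw.step _ i (show i.val - 1 + 1 = i.val by omega)).1) ha⟩
  · by_cases h0 : i.val = 0
    · obtain ⟨a, ha⟩ := hh.1 ⟨k - 1, by omega⟩
      obtain rfl : i = ⟨0, hk⟩ := Fin.ext h0
      exact ⟨a, conj_eigen w h hc hce ha⟩
    · obtain ⟨a, ha⟩ := hh.2.1 ⟨i.val - 1, by omega⟩
      exact ⟨a, conj_eigen w h one_ne_zero
        (by rw [one_smul]; exact (hw.step _ i (show i.val - 1 + 1 = i.val by omega)).2) ha⟩
  · obtain ⟨a, ha⟩ := hh.2.2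
    exact ⟨a, conj_eigen w h one_ne_zero (by rw [one_smul]; exact hw.z) ha⟩

theorem HFrame.D_diag (i : Fin k) {a : F} (ha : a ≠ 0) : H.Diag (H.D σ i a) := by
  refine ⟨fun l => ?_, fun l => ?_, 1, by rw [one_smul]; exact H.D_z hf i ha⟩
  · by_cases h : l = i
    · subst h; exact ⟨a, (H.D_e hf l ha).1⟩
    · exact ⟨1, by rw [one_smul]; exact (H.D_e hf i ha).2 l h⟩
  · by_cases h : l = i
    · subst h; exact ⟨(σ a)⁻¹, (H.D_d hf l ha).1⟩
    · exact ⟨1, by rw [one_smul]; exact (H.D_d hf i ha).2 l h⟩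

theorem HFrame.Diag.mul {g h : GL ι F} (hg : H.Diag g) (hh : H.Diag h) : H.Diag (g * h) := by
  refine ⟨fun i => ?_, fun i => ?_, ?_⟩
  · obtain ⟨a, ha⟩ := hg.1 i; obtain ⟨b, hb⟩ := hh.1 i
    exact ⟨b * a, by rw [mul_mulVec, hb, mulVec_smul, ha, smul_smul]⟩
  · obtain ⟨a, ha⟩ := hg.2.1 i; obtain ⟨b, hb⟩ := hh.2.1 i
    exact ⟨b * a, by rw [mul_mulVec, hb, mulVec_smul, ha, smul_smul]⟩
  · obtain ⟨a, ha⟩ := hg.2.2; obtain ⟨b, hb⟩ := hh.2.2
    exact ⟨b * a, by rw [mul_mulVec, hb, mulVec_smul, ha, smul_smul]⟩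

theorem HFrame.qR_diag (hz : f H.z H.z = 1) {μ : F} (hμ : μ * σ μ = 1) :
    H.Diag (qR f H.z μ) ∧ (∀ i, (qR f H.z μ : Matrix ι ι F) *ᵥ H.e i = H.e i) ∧
      (∀ i, (qR f H.z μ : Matrix ι ι F) *ᵥ H.d i = H.d i) ∧ (qR f H.z μ : Matrix ι ι F) *ᵥ H.z = μ • H.z := by
  have he : ∀ i, (qR f H.z μ : Matrix ι ι F) *ᵥ H.e i = H.e i := fun i => by
    rw [qR_mulVec hf hz hμ, (H.ez i).1]; simp
  have hd : ∀ i, (qR f H.z μ : Matrix ι ι F) *ᵥ H.d i = H.d i := fun i => by
    rw [qR_mulVec hf hz hμ, (H.ez i).2]; simp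
  have hz' : (qR f H.z μ : Matrix ι ι F) *ᵥ H.z = μ • H.z := by
    rw [qR_mulVec hf hz hμ, hz]; module
  exact ⟨⟨fun i => ⟨1, by rw [one_smul, he]⟩, fun i => ⟨1, by rw [one_smul, hd]⟩, μ, hz'⟩, he, hd, hz'⟩

variable [Fintype F]

/-- Two elements generating all transvections. -/
theorem HFrame.exists_two_generators {q : ℕ} (hF : Fintype.card F = q ^ 2) (hσ : ∀ x, σ x = x ^ q)
    (hk : 0 < k) (hmem : ∀ g : GL ι F, Iso f g → (g : Matrix ι ι F).det = 1 → g ∈ transvGroup σ f)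
    (hcase : (H.z = 0 ∧ 2 ≤ k) ∨ (f H.z H.z = 1 ∧ (k = 1 → 3 ≤ q))) :
    ∃ a b : GL ι F, Subgroup.closure ({a, b} : Set (GL ι F)) = transvGroup σ f := by
  classical
  have hq2 : 2 ≤ q := two_le_q hF
  obtain ⟨lam, hlam⟩ := IsCyclic.exists_generator (α := Fˣ)
  have hord : orderOf lam = q * q - 1 := by
    rw [orderOf_eq_card_of_forall_mem_zpowers hlam, Nat.card_eq_fintype_card, Fintype.card_units, hF, sq]
  have hpow : ∀ n : ℕ, (lam : F) ^ n = 1 → q * q - 1 ∣ n := by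
    intro n hn
    rw [← hord]
    exact orderOf_dvd_of_pow_eq_one (Units.ext (by rw [Units.val_pow_eq_pow_val, hn, Units.val_one]))
  have hqq : q + q ≤ q * q := by rw [← two_mul]; exact Nat.mul_le_mul_right q hq2
  set l : F := (lam : F) with hl
  have hl0 : l ≠ 0 := lam.ne_zero
  have hσl0 : σ l ≠ 0 := (map_ne_zero_iff _ σ.injective).2 hl0
  have hl1 : l ≠ 1 := fun h => by
    have := Nat.le_of_dvd (by norm_num) (hpow 1 (by rw [pow_one]; exact h))
    omega
  have hσl1 : σ l ≠ 1 := fun h => hl1 (σ.injective (h.trans (map_one σ).symm))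
  have hll : σ l ≠ l := fun h => by
    rw [hσ] at h
    have := Nat.le_of_dvd (by omega) (hpow (q - 1) (mul_right_cancel₀ hl0 (by
      rw [← pow_succ, show q - 1 + 1 = q by omega, one_mul]; exact h)))
    omega
  have hr : ∀ r, 2 ≤ r → r * r ≤ Fintype.card F → r ≤ q := by
    intro r _ hr
    rw [hF, sq] at hr
    exact Nat.mul_self_le_mul_self_iff.1 hr
  have h4 : 2 * 2 ≤ Fintype.card F := by rw [hF, sq]; exact Nat.mul_le_mul hq2 hq2
  have hβ : ∀ y : ι → F, ∃ β, β + σ β + f y y = 0 := fun y => by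
    obtain ⟨a, ha⟩ := exists_trace_eq hf.ne_refl hf.involutive (b := -f y y) (by rw [map_neg, self_fixed hf])
    exact ⟨a, by linear_combination ha⟩
  obtain ⟨w, hw⟩ := H.exists_isCycle hf hk
  obtain ⟨c, c', hc, hc', hce, hcd⟩ := hw.last
  set i0 : Fin k := ⟨0, hk⟩ with hi0
  set j0 : Fin k := ⟨k - 1, by omega⟩ with hj0
  -- the generators and their parameters
  obtain ⟨y, β, h, A, B, A', B', hy0, hval, hzero, hhiso, hhdet, hhD, hA, hB, hA', hB', hα0, hα, hα', hend⟩ :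
      ∃ (y : ι → F) (β : F) (h : GL ι F) (A B A' B' : F), f y (H.e i0) = 0 ∧
        β + σ β + f ((1 : F) • y) ((1 : F) • y) = 0 ∧ (f y y = 0 → β = 0) ∧ Iso f h ∧
        (h : Matrix ι ι F).det = 1 ∧ H.Diag h ∧
        (h : Matrix ι ι F) *ᵥ H.e i0 = A • H.e i0 ∧ (h : Matrix ι ι F) *ᵥ y = B • y ∧
        ((w * h * w⁻¹ : GL ι F) : Matrix ι ι F) *ᵥ H.e i0 = A' • H.e i0 ∧
        ((w * h * w⁻¹ : GL ι F) : Matrix ι ι F) *ᵥ y = B' • y ∧
        σ A * B ≠ 0 ∧ (∀ r, 2 ≤ r → r * r ≤ Fintype.card F → (σ A * B) ^ (r - 1) ≠ 1) ∧ σ A' * B' ≠ 1 ∧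
        ∀ K : Subgroup (GL ι F), w ∈ K → Line σ f K (H.e i0) y → transvGroup σ f ≤ K := by
    rcases hcase with ⟨hz, hk2⟩ | ⟨hz, hk1⟩
    · set i1 : Fin k := ⟨1, by omega⟩ with hi1
      have h01 : i0 ≠ i1 := by simp [hi0, hi1]
      have hli : l⁻¹ ≠ 0 := inv_ne_zero hl0
      set h := H.D σ i0 l * H.D σ i1 l⁻¹ with hh
      have hd0 : (h : Matrix ι ι F) *ᵥ H.d i0 = (σ l)⁻¹ • H.d i0 := by
        rw [hh, mul_mulVec, (H.D_d hf i1 hli).2 i0 h01, (H.D_d hf i0 hl0).1]
      have hd1 : (h : Matrix ι ι F) *ᵥ H.d i1 = σ l • H.d i1 := by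
        rw [hh, mul_mulVec, (H.D_d hf i1 hli).1, mulVec_smul, (H.D_d hf i0 hl0).2 i1 h01.symm, map_inv₀, inv_inv]
      have hlast : (h : Matrix ι ι F) *ᵥ H.d j0 = (if k = 2 then σ l else 1) • H.d j0 := by
        by_cases h2 : k = 2
        · rw [if_pos h2, show j0 = i1 from Fin.ext (show k - 1 = 1 by omega), hd1]
        · have n1 : j0 ≠ i0 := by simp [hj0, hi0]; omega
          have n2 : j0 ≠ i1 := by simp [hj0, hi1]; omega
          rw [if_neg h2, one_smul, hh, mul_mulVec, (H.D_d hf i1 hli).2 j0 n2, (H.D_d hf i0 hl0).2 j0 n1]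
      refine ⟨H.d i1, 0, h, l, σ l, _, _, by simp [H.de, h01.symm], by rw [smul_self_form hf, H.dd]; simp,
        fun _ => rfl, (H.D_iso hf i0 hl0).mul (H.D_iso hf i1 hli), ?_,
        (H.D_diag hf i0 hl0).mul hf H (H.D_diag hf i1 hli), ?_, hd1,
        conj_eigen w h hc' hcd hlast,
        conj_eigen w h one_ne_zero (by rw [one_smul]; exact (hw.step i0 i1 rfl).2) hd0,
        mul_ne_zero hσl0 hσl0, fun r hr2 hrF => ?_, ?_, fun K hwK hL => ?_⟩
      · rw [hh, Units.val_mul, det_mul, H.D_det hf i0 hl0, H.D_det hf i1 hli, map_inv₀]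
        field_simp
      · rw [hh, mul_mulVec, (H.D_e hf i1 hli).2 i0 h01, (H.D_e hf i0 hl0).1]
      · intro h'
        rw [← map_mul, ← map_pow] at h'
        have h'' : l ^ (2 * (r - 1)) = 1 := by
          rw [pow_mul, pow_two]; exact σ.injective (h'.trans (map_one σ).symm)
        have h2 := Nat.le_of_dvd (by omega) (hpow _ h'')
        have := hr r hr2 hrF
        omega
      · split_ifs with h2
        · rw [hf.involutive, Ne, mul_inv_eq_one₀ hσl0]; exact Ne.symm hll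
        · rw [map_one, one_mul, Ne, inv_eq_one]; exact hσl1
      · refine H.transvGroup_le_of_cycle hf hk hw hwK (Or.inl ⟨by omega, hz, ?_⟩)
        refine ⟨H.ee _ _, H.dd _ _, by simp [H.ed, Fin.ext_iff], by simp [H.de, Fin.ext_iff], fun t => ?_⟩
        exact hL t 0 (by rw [smul_self_form hf, H.dd]; simp) fun _ => rfl
    · have hz' : f H.z H.z ≠ 0 := hz ▸ one_ne_zero
      have hfin : ∀ K : Subgroup (GL ι F), w ∈ K → Line σ f K (H.e i0) H.z → transvGroup σ f ≤ K :=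
        fun K hwK hL => H.transvGroup_le_of_cycle hf hk hw hwK (Or.inr ⟨hz', hL⟩)
      obtain ⟨β, hβ'⟩ := hβ ((1 : F) • H.z)
      rcases (show k = 1 ∨ k = 2 ∨ 3 ≤ k by omega) with hk' | hk' | hk'
      · set μ := σ l / l with hμdef
        have hμ : μ * σ μ = 1 := by rw [hμdef, map_div₀, hf.involutive]; field_simp
        obtain ⟨hqD, hqe, hqd, hqz⟩ := H.qR_diag hf hz hμ
        set h := H.D σ i0 l * qR f H.z μ with hh
        have hlast : (h : Matrix ι ι F) *ᵥ H.d j0 = (σ l)⁻¹ • H.d j0 := by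
          rw [show j0 = i0 from Fin.ext (show k - 1 = 0 by omega), hh, mul_mulVec, hqd, (H.D_d hf i0 hl0).1]
        have hzh : (h : Matrix ι ι F) *ᵥ H.z = μ • H.z := by
          rw [hh, mul_mulVec, hqz, mulVec_smul, H.D_z hf i0 hl0]
        refine ⟨H.z, β, h, l, μ, _, _, (H.ze i0).1, hβ', fun h0 => absurd h0 hz',
          (H.D_iso hf i0 hl0).mul (iso_qR hf hz hμ), ?_, (H.D_diag hf i0 hl0).mul hf H hqD, ?_, hzh,
          conj_eigen w h hc' hcd hlast, conj_eigen w h one_ne_zero (by rw [one_smul]; exact hw.z) hzh,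
          mul_ne_zero hσl0 (div_ne_zero hσl0 hl0), fun r hr2 hrF => ?_, ?_, hfin⟩
        · rw [hh, Units.val_mul, det_mul, H.D_det hf i0 hl0, det_qR hf hz hμ, hμdef]
          field_simp
        · rw [hh, mul_mulVec, hqe, (H.D_e hf i0 hl0).1]
        · intro h'
          have hq3 := hk1 hk'
          have e : σ l * μ = l ^ (2 * q - 1) := by
            rw [hμdef, hσ, ← mul_div_assoc, div_eq_iff hl0, ← pow_add, ← pow_succ]
            congr 1
            omega
          rw [e, ← pow_mul] at h'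
          obtain ⟨s, hs⟩ := hpow _ h'
          have hrq := hr r hr2 hrF
          have key : q * q - 1 ∣ 3 * (r - 1) := by
            have e1 : (2 * q + 1) * (2 * q - 1) = 4 * (q * q - 1) + 3 := by
              obtain ⟨m, rfl⟩ : ∃ m, q = m + 1 := ⟨q - 1, by omega⟩
              simp only [show 2 * (m + 1) - 1 = 2 * m + 1 by omega,
                show (m + 1) * (m + 1) - 1 = m * m + 2 * m by
                  rw [show (m + 1) * (m + 1) = m * m + 2 * m + 1 by ring]; omega]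
              ring
            have h1 : q * q - 1 ∣ (2 * q + 1) * ((2 * q - 1) * (r - 1)) := Dvd.dvd.mul_left ⟨s, hs⟩ _
            rw [← mul_assoc, e1, add_mul, mul_assoc] at h1
            exact (Nat.dvd_add_right (Dvd.dvd.mul_left (dvd_mul_right _ _) 4)).1 h1
          have h3 := Nat.le_of_dvd (by omega) key
          have hq33 : 3 * q ≤ q * q := Nat.mul_le_mul_right q hq3
          omega
        · intro h'
          rw [map_inv₀, hf.involutive, hμdef, ← mul_div_assoc, inv_mul_eq_div, div_div, div_eq_one_iff_eq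
            (mul_ne_zero hl0 hl0), hσ, ← pow_two] at h'
          have hq3 := hk1 hk'
          have h'' : l ^ (q - 2) = 1 := mul_right_cancel₀ (pow_ne_zero 2 hl0) (by
            rw [← pow_add, show q - 2 + 2 = q by omega, one_mul]; exact h')
          have := Nat.le_of_dvd (by omega) (hpow _ h'')
          omega
      · set i1 : Fin k := ⟨1, by omega⟩ with hi1
        have h01 : i0 ≠ i1 := by simp [hi0, hi1]
        have hli : l⁻¹ ≠ 0 := inv_ne_zero hl0
        set h := H.D σ i0 l * H.D σ i1 l⁻¹ with hh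
        have hlast : (h : Matrix ι ι F) *ᵥ H.d j0 = σ l • H.d j0 := by
          rw [show j0 = i1 from Fin.ext (show k - 1 = 1 by omega), hh, mul_mulVec, (H.D_d hf i1 hli).1,
            mulVec_smul, (H.D_d hf i0 hl0).2 i1 h01.symm, map_inv₀, inv_inv]
        have hzh : (h : Matrix ι ι F) *ᵥ H.z = (1 : F) • H.z := by
          rw [one_smul, hh, mul_mulVec, H.D_z hf i1 hli, H.D_z hf i0 hl0]
        refine ⟨H.z, β, h, l, 1, _, _, (H.ze i0).1, hβ', fun h0 => absurd h0 hz',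
          (H.D_iso hf i0 hl0).mul (H.D_iso hf i1 hli), ?_,
          (H.D_diag hf i0 hl0).mul hf H (H.D_diag hf i1 hli), ?_, hzh,
          conj_eigen w h hc' hcd hlast, conj_eigen w h one_ne_zero (by rw [one_smul]; exact hw.z) hzh,
          mul_ne_zero hσl0 one_ne_zero, fun r hr2 hrF => ?_, ?_, hfin⟩
        · rw [hh, Units.val_mul, det_mul, H.D_det hf i0 hl0, H.D_det hf i1 hli, map_inv₀]
          field_simp
        · rw [hh, mul_mulVec, (H.D_e hf i1 hli).2 i0 h01, (H.D_e hf i0 hl0).1]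
        · intro h'
          rw [mul_one, ← map_pow] at h'
          have := Nat.le_of_dvd (by omega) (hpow (r - 1) (σ.injective (h'.trans (map_one σ).symm)))
          have := hr r hr2 hrF
          omega
        · rw [hf.involutive, mul_one]; exact hl1
      · set i1 : Fin k := ⟨1, by omega⟩ with hi1
        have h01 : i0 ≠ i1 := by simp [hi0, hi1]
        have hli : (l ^ 2)⁻¹ ≠ 0 := inv_ne_zero (pow_ne_zero 2 hl0)
        set μ := l / σ l with hμdef
        have hμ : μ * σ μ = 1 := by rw [hμdef, map_div₀, hf.involutive]; field_simp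
        obtain ⟨hqD, hqe, hqd, hqz⟩ := H.qR_diag hf hz hμ
        set h := H.D σ i0 l * H.D σ i1 (l ^ 2)⁻¹ * qR f H.z μ with hh
        have hlast : (h : Matrix ι ι F) *ᵥ H.d j0 = (1 : F) • H.d j0 := by
          have n1 : j0 ≠ i0 := by simp [hj0, hi0]; omega
          have n2 : j0 ≠ i1 := by simp [hj0, hi1]; omega
          rw [one_smul, hh, mul_mulVec, mul_mulVec, hqd, (H.D_d hf i1 hli).2 j0 n2,
            (H.D_d hf i0 hl0).2 j0 n1]
        have hzh : (h : Matrix ι ι F) *ᵥ H.z = μ • H.z := by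
          rw [hh, mul_mulVec, mul_mulVec, hqz, mulVec_smul, mulVec_smul, H.D_z hf i1 hli, H.D_z hf i0 hl0]
        refine ⟨H.z, β, h, l, μ, _, _, (H.ze i0).1, hβ', fun h0 => absurd h0 hz',
          ((H.D_iso hf i0 hl0).mul (H.D_iso hf i1 hli)).mul (iso_qR hf hz hμ), ?_,
          ((H.D_diag hf i0 hl0).mul hf H (H.D_diag hf i1 hli)).mul hf H hqD, ?_, hzh,
          conj_eigen w h hc' hcd hlast, conj_eigen w h one_ne_zero (by rw [one_smul]; exact hw.z) hzh,
          mul_ne_zero hσl0 (div_ne_zero hl0 hσl0), fun r hr2 hrF => ?_, ?_, hfin⟩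
        · rw [hh, Units.val_mul, det_mul, Units.val_mul, det_mul, H.D_det hf i0 hl0, H.D_det hf i1 hli,
            det_qR hf hz hμ, hμdef, map_inv₀, map_pow]
          field_simp
        · rw [hh, mul_mulVec, mul_mulVec, hqe, (H.D_e hf i1 hli).2 i0 h01, (H.D_e hf i0 hl0).1]
        · intro h'
          rw [hμdef, mul_div_cancel₀ _ hσl0] at h'
          have := Nat.le_of_dvd (by omega) (hpow (r - 1) h')
          have := hr r hr2 hrF
          omega
        · rw [map_one, one_mul, hμdef, Ne, div_eq_one_iff_eq hσl0]; exact Ne.symm hll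
  set x := eu f (H.e i0) ((1 : F) • y) β with hx
  have hx1 : f ((1 : F) • y) (H.e i0) = 0 := by rw [hf.smul_left, hy0, mul_zero]
  have hxiso : Iso f x := iso_eu hf (H.ee i0 i0) hx1 hval
  refine ⟨h, x * w, le_antisymm ((Subgroup.closure_le _).2 ?_) ?_⟩
  · rintro g (rfl | rfl)
    · exact hmem _ hhiso hhdet
    · exact hmem _ (hxiso.mul hw.iso) (by rw [Units.val_mul, det_mul, eu_det, hw.det, one_mul])
  set K := Subgroup.closure ({h, x * w} : Set (GL ι F)) with hK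
  have hhK : h ∈ K := Subgroup.subset_closure (by simp)
  have hbK : x * w ∈ K := Subgroup.subset_closure (by simp)
  have hcK : x * (w * h * w⁻¹) * x⁻¹ ∈ K := by
    rw [show x * (w * h * w⁻¹) * x⁻¹ = (x * w) * h * (x * w)⁻¹ by group]
    exact mul_mem (mul_mem hbK hhK) (inv_mem hbK)
  have hL : Line σ f K (H.e i0) y := line_of_steinberg hf (H.ee i0 i0) hy0 ⟨β, hval, hzero, rfl⟩ hhiso
    ((hw.iso.mul hhiso).mul hw.iso.inv) hA hB hA' hB'
    (H.diag_commute hf hhD (H.diag_conj hf hk hw hhD)) hhK hcK hα0 hα hα' h4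
  have hxK : x ∈ K := hL 1 β hval hzero
  have hwK : w ∈ K := by
    have := mul_mem (inv_mem hxK) hbK
    rwa [inv_mul_cancel_left] at this
  exact hend K hwK hL

end CfsgLib.Classical.UnitTwoGen
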