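/-
Hyperbolic pairs in the standard unitary space, and two generators of `PSU_n(q)`.
-/
import Cfsg.Agent.Lib.Classical.UnitTwoGen.Main

set_option autoImplicit false
set_option linter.unusedSectionVars false

namespace CfsgLib.Classical.UnitTwoGen

open Matrix Cfsg CfsgLib.Transvec CfsgLib.Transvec.Unitary CfsgLib.Classical.Unitary
open scoped MatrixGroups

variable {F : Type*} [Field F] {σ : F ≃+* F}

theorem exists_frame [Fintype F] {n q : ℕ} (hF : Fintype.card F = q ^ 2) (hσ : ∀ x, σ x = x ^ q)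
    (hinv : ∀ x, σ (σ x) = x) (hne : σ ≠ RingEquiv.refl F) :
    ∃ H : HFrame (hermForm n F q) (n / 2),
      (H.z = 0 ∧ n = 2 * (n / 2)) ∨ (hermForm n F q H.z H.z = 1 ∧ n = 2 * (n / 2) + 1) := by
  classical
  have hf := isUnitaryForm_hermForm (n := n) hσ hinv hne
  obtain ⟨s, hs⟩ := CfsgLib.Transvec.Unitary.exists_norm_eq hne hinv (b := (-1 : F)) (by rw [map_neg, map_one])
  obtain ⟨a, ha⟩ : ∃ a, σ a ≠ a := by
    by_contra h
    simp only [not_exists, not_not] at h
    exact hne (RingEquiv.ext h)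
  have ha0 : a ≠ 0 := fun h => ha (by rw [h, map_zero])
  have hσa : σ a ≠ 0 := (map_ne_zero_iff _ σ.injective).2 ha0
  set s' := s * (σ a / a) with hs'def
  have hs' : s' * σ s' = -1 := by
    rw [hs'def, map_mul, map_div₀, hinv, ← hs]
    field_simp
  have hs0 : s ≠ 0 := fun h => by rw [h, zero_mul] at hs; exact one_ne_zero (neg_eq_zero.1 hs.symm)
  have hss : s' ≠ s := fun h => ha ((div_eq_one_iff_eq ha0).1 (mul_left_cancel₀ hs0 (h.trans (mul_one s).symm)))
  set r := 1 + s * σ s' with hr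
  have hr0 : r ≠ 0 := fun h => hss (by
    have h1 : s * σ s' = s' * σ s' := by rw [hs']; linear_combination h
    exact (mul_right_cancel₀ (fun h2 => by rw [h2, mul_zero] at hs'; exact one_ne_zero (neg_eq_zero.1 hs'.symm))
      h1).symm)
  have hσr : σ r ≠ 0 := (map_ne_zero_iff _ σ.injective).2 hr0
  let v : Fin n → Fin n → F := fun i => Pi.single i 1
  have hv : ∀ i j, hermForm n F q (v i) (v j) = if i = j then 1 else 0 := fun i j => hermForm_basis hσ i j
  let p : Fin (n / 2) → Fin n := fun i => ⟨2 * i.val, by omega⟩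
  let p' : Fin (n / 2) → Fin n := fun i => ⟨2 * i.val + 1, by omega⟩
  let e : Fin (n / 2) → Fin n → F := fun i => v (p i) + s • v (p' i)
  let d : Fin (n / 2) → Fin n → F := fun i => (σ r)⁻¹ • (v (p i) + s' • v (p' i))
  have hpp : ∀ i j, (p i = p j ↔ i = j) ∧ (p' i = p' j ↔ i = j) ∧ p i ≠ p' j ∧ p' i ≠ p j := fun i j => by
    simp only [p, p', Fin.ext_iff, ne_eq]
    omega
  have hcomb : ∀ (t u : F) i j, hermForm n F q (v (p i) + t • v (p' i)) (v (p j) + u • v (p' j)) =
      if i = j then 1 + t * σ u else 0 := by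
    intro t u i j
    obtain ⟨h1, h2, h3, h4⟩ := hpp i j
    simp only [hf.add_left, add_right' hf, hf.smul_left, smul_right' hf, hv, h1, h2, h3, h4, if_false]
    split_ifs <;> ring
  have hdiag : ∀ x : Fin n → F, ∀ i, hermForm n F q x (v i) = x i := fun x i => by
    rw [hf.herm, hermForm_single hσ, hinv]
  have hzero : ∀ x : Fin n → F, (∀ i, hermForm n F q x (e i) = 0 ∧ hermForm n F q x (d i) = 0) →
      ∀ i, x (p i) = 0 ∧ x (p' i) = 0 := by
    intro x hx i
    obtain ⟨h1, h2⟩ := hx i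
    simp only [e, d, smul_right' hf, map_inv₀, hinv, mul_eq_zero, inv_eq_zero, hr0, false_or, add_right' hf,
      hdiag] at h1 h2
    have h3 : (σ s - σ s') * x (p' i) = 0 := by linear_combination h1 - h2
    have h4 : x (p' i) = 0 := (mul_eq_zero.1 h3).resolve_left (sub_ne_zero.2 fun h => hss (σ.injective h).symm)
    exact ⟨by rw [h4] at h1; simpa using h1, h4⟩
  have hee : ∀ i j, hermForm n F q (e i) (e j) = 0 := fun i j => by
    simp only [e, hcomb, hs]; simp
  have hdd : ∀ i j, hermForm n F q (d i) (d j) = 0 := fun i j => by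
    simp only [d, hf.smul_left, smul_right' hf, hcomb, hs']; simp
  have hed : ∀ i j, hermForm n F q (e i) (d j) = if i = j then 1 else 0 := fun i j => by
    simp only [e, d, smul_right' hf, hcomb, map_inv₀, hinv, ← hr, mul_ite, mul_zero, inv_mul_cancel₀ hr0]
  have hde : ∀ i j, hermForm n F q (d i) (e j) = if i = j then 1 else 0 := fun i j => by
    rw [hf.herm, hed]
    by_cases h : i = j
    · rw [if_pos h, if_pos h.symm, map_one]
    · rw [if_neg h, if_neg (Ne.symm h), map_zero]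
  have hlt : ∀ j : Fin n, j.val < 2 * (n / 2) → ∃ i, j = p i ∨ j = p' i := fun j hj =>
    ⟨⟨j.val / 2, by omega⟩, by simp only [p, p', Fin.ext_iff]; omega⟩
  by_cases heven : n = 2 * (n / 2)
  · refine ⟨⟨e, d, 0, hee, hdd, hed, hde, fun i => ⟨zero_left' hf _, zero_left' hf _⟩,
      fun i => ⟨zero_right' hf _, zero_right' hf _⟩, fun x hx => ⟨0, ?_⟩⟩, Or.inl ⟨rfl, heven⟩⟩
    funext j
    obtain ⟨i, rfl | rfl⟩ := hlt j (by omega)
    · simp [(hzero x hx i).1]
    · simp [(hzero x hx i).2]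
  · let l : Fin n := ⟨2 * (n / 2), by omega⟩
    have hl : ∀ i, l ≠ p i ∧ l ≠ p' i := fun i => by simp only [l, p, p', ne_eq, Fin.ext_iff]; omega
    have hze : ∀ i, hermForm n F q (v l) (e i) = 0 ∧ hermForm n F q (v l) (d i) = 0 := fun i => by
      simp only [e, d, add_right' hf, smul_right' hf, hv, (hl i).1, (hl i).2, if_false]; simp
    refine ⟨⟨e, d, v l, hee, hdd, hed, hde, hze, fun i => ⟨(eq_zero_comm hf).mp (hze i).1,
      (eq_zero_comm hf).mp (hze i).2⟩, fun x hx => ⟨x l, ?_⟩⟩, Or.inr ⟨?_, by omega⟩⟩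
    · funext j
      by_cases hj : j.val < 2 * (n / 2)
      · obtain ⟨i, rfl | rfl⟩ := hlt j hj
        · simp [v, (hzero x hx i).1, (hl i).1]
        · simp [v, (hzero x hx i).2, (hl i).2]
      · obtain rfl : j = l := Fin.ext (show j.val = 2 * (n / 2) by omega)
        simp [v]
    · show hermForm n F q (v l) (v l) = 1
      rw [hv, if_pos rfl]

theorem psu_two_generated [Fintype F] {n q : ℕ} (hF : Fintype.card F = q ^ 2) (hn : 3 ≤ n)
    (h32 : n = 3 → q ≠ 2) : ∃ a b : PSU n F q, Subgroup.closure ({a, b} : Set (PSU n F q)) = ⊤ := by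
  obtain ⟨σ, hσ, hinv, hne⟩ := exists_frob hF
  have hf := isUnitaryForm_hermForm (n := n) hσ hinv hne
  have h32' : ¬(n = 3 ∧ q = 2) := fun h => h32 h.1 h.2
  have hq := two_le_q hF
  have hsk : 4 ≤ Fintype.card (Fin n) ∨ ∃ c : F, c ≠ 0 ∧ c + σ c = 0 ∧ 1 + c ≠ 0 := by
    rw [Fintype.card_fin]
    by_cases h4 : 4 ≤ n
    · exact Or.inl h4
    · exact Or.inr (exists_skew_ne_neg_one hF (by omega) hσ hinv hne)
  obtain ⟨H, hH⟩ := exists_frame (n := n) hF hσ hinv hne
  obtain ⟨a, b, hab⟩ := H.exists_two_generators hf hF hσ (by omega)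
    (fun g hg hdet => mem_transvGroup_short hf (by rwa [Fintype.card_fin]) hsk (hermForm_basis hσ) hg hdet)
    (by
      rcases hH with ⟨hz, hn'⟩ | ⟨hz, hn'⟩
      · exact Or.inl ⟨hz, by omega⟩
      · exact Or.inr ⟨hz, fun h => by omega⟩)
  rw [← range_suToGL hF hσ hinv hne hn h32'] at hab
  obtain ⟨A, hA⟩ : a ∈ (suToGL (n := n) (F := F) (q := q)).range := hab ▸ Subgroup.subset_closure (by simp)
  obtain ⟨B, hB⟩ : b ∈ (suToGL (n := n) (F := F) (q := q)).range := hab ▸ Subgroup.subset_closure (by simp)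
  have htop : Subgroup.closure ({A, B} : Set (SU n F q)) = ⊤ := by
    refine Subgroup.map_injective suToGL_injective ?_
    rw [MonoidHom.map_closure, Set.image_pair, hA, hB, hab, MonoidHom.range_eq_map]
  let π := QuotientGroup.mk' (Subgroup.center (SU n F q))
  refine ⟨π A, π B, ?_⟩
  have h' := congrArg (Subgroup.map π) htop
  rwa [MonoidHom.map_closure, Set.image_pair,
    Subgroup.map_top_of_surjective π (QuotientGroup.mk'_surjective _)] at h'

end CfsgLib.Classical.UnitTwoGen
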